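import Groth.Agent.S1216
import Mathlib.RingTheory.LocalProperties.Basic
import Mathlib.RingTheory.Flat.Localization
import Mathlib.RingTheory.Flat.Stability
import Mathlib.RingTheory.EssentialFiniteness
import Mathlib.RingTheory.Valuation.LocalSubring
import Mathlib.LinearAlgebra.TensorProduct.RightExactness

/-!
# Idempotents over a valuation ring when the fibres are reduced
-/

universe u

set_option autoImplicit false
set_option linter.style.haveILetI false
set_option linter.unusedSectionVars false
set_option backward.isDefEq.respectTransparency false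
set_option backward.isDefEq.respectTransparency.types false

open TensorProduct

noncomputable section

namespace Groth.L23.GeomConnLsc

/-- Over a valuation ring with reduced closed fibre, `b² = s b` forces `s ∣ b`. -/
theorem dvd_of_sq_eq_local {A B : Type u} [CommRing A] [IsDomain A] [ValuationRing A] [CommRing B] [IsLocalRing B]
    [Algebra A B] [IsLocalHom (algebraMap A B)] [Algebra.EssFiniteType A B] [Module.Flat A B]
    (hred : ((IsLocalRing.maximalIdeal A).map (algebraMap A B)).IsRadical) {s : A} {b : B}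
    (hb : b * b = algebraMap A B s * b) : algebraMap A B s ∣ b := by
  obtain ⟨I, ⟨c, rfl⟩, hmem, hmin⟩ := Groth.Agent.S1216.result (A := A) (B := B) B b
  rw [Ideal.smul_top_eq_map, Submodule.restrictScalars_mem, Ideal.submodule_span_eq, Ideal.map_span,
    Set.image_singleton, Ideal.mem_span_singleton'] at hmem
  obtain ⟨b', rfl⟩ := hmem
  rcases eq_or_ne c 0 with hc | hc
  · simp [hc]
  have hb' : b' ∉ (IsLocalRing.maximalIdeal A).map (algebraMap A B) := fun h => by
    have hmem' : b' * algebraMap A B c ∈
        (Ideal.span {c} * IsLocalRing.maximalIdeal A) • (⊤ : Submodule A B) := by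
      rw [Ideal.smul_top_eq_map, Submodule.restrictScalars_mem, Ideal.map_mul, mul_comm b']
      exact Ideal.mul_mem_mul (Ideal.mem_map_of_mem _ (Ideal.mem_span_singleton_self c)) h
    obtain ⟨a, ha, hac⟩ := Ideal.mem_span_singleton_mul.1 (hmin _ hmem' (Ideal.mem_span_singleton_self c))
    exact (IsLocalRing.maximalIdeal.isMaximal A).ne_top
      ((Ideal.eq_top_iff_one _).2 ((mul_left_eq_self₀.1 (by rw [mul_comm]; exact hac)).resolve_right hc ▸ ha))
  rcases ValuationRing.dvd_total s c with hsc | hcs
  · exact dvd_mul_of_dvd_right (map_dvd (algebraMap A B) hsc) _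
  obtain ⟨d, rfl⟩ := hcs
  have hreg : Function.Injective fun x : B => c • x :=
    (Module.Flat.isSMulRegular_of_isRegular (M := B) (isRegular_of_ne_zero hc))
  have h2 : c • (c • (b' * b')) = c • (c • (algebraMap A B d * b')) := by
    simp only [Algebra.smul_def]
    rw [map_mul] at hb
    linear_combination hb
  have h3 : b' * b' = algebraMap A B d * b' := hreg (hreg h2)
  by_cases hd : IsUnit d
  · obtain ⟨v, rfl⟩ := hd
    exact ⟨b' * algebraMap A B ↑v⁻¹, by
      rw [map_mul, show algebraMap A B c * algebraMap A B ↑v * (b' * algebraMap A B ↑v⁻¹) =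
        b' * algebraMap A B c * (algebraMap A B ↑v * algebraMap A B ↑v⁻¹) by ring, ← map_mul,
        Units.mul_inv, map_one, mul_one]⟩
  · refine (hb' (hred ⟨2, ?_⟩)).elim
    rw [sq, h3]
    exact Ideal.mul_mem_right _ _ (Ideal.mem_map_of_mem _ ((IsLocalRing.mem_maximalIdeal d).2 hd))

/-- The local rings of a valuation ring are valuation rings. -/
theorem valuationRing_localization {V : Type u} [CommRing V] [IsDomain V] [ValuationRing V] (q : Ideal V) [q.IsPrime] :
    ValuationRing (Localization.AtPrime q) := by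
  refine ValuationRing.iff_dvd_total.2 ⟨fun x y => ?_⟩
  obtain ⟨a, s, rfl⟩ := IsLocalization.exists_mk'_eq q.primeCompl x
  obtain ⟨b, t, rfl⟩ := IsLocalization.exists_mk'_eq q.primeCompl y
  have hx : Associated (IsLocalization.mk' (Localization.AtPrime q) a s) (algebraMap V _ a) :=
    ⟨(IsLocalization.map_units (Localization.AtPrime q) s).unit, IsLocalization.mk'_spec _ a s⟩
  have hy : Associated (IsLocalization.mk' (Localization.AtPrime q) b t) (algebraMap V _ b) :=
    ⟨(IsLocalization.map_units (Localization.AtPrime q) t).unit, IsLocalization.mk'_spec _ b t⟩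
  rw [hx.dvd_iff_dvd_left, hy.dvd_iff_dvd_right, hy.dvd_iff_dvd_left, hx.dvd_iff_dvd_right]
  exact (ValuationRing.dvd_total a b).imp (map_dvd _) (map_dvd _)

/-- Over a valuation ring with reduced fibres, `b² = s b` forces `s ∣ b`. -/
theorem dvd_of_sq_eq {V T : Type u} [CommRing V] [IsDomain V] [ValuationRing V] [CommRing T] [Algebra V T]
    [Module.Flat V T] [Algebra.FiniteType V T]
    (hred : ∀ (q : Ideal V) [q.IsPrime], (q.map (algebraMap V T)).IsRadical) {s : V} {b : T}
    (hb : b * b = algebraMap V T s * b) : algebraMap V T s ∣ b := by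
  rw [← Ideal.mem_span_singleton]
  refine Ideal.mem_of_localization_maximal fun M hM => ?_
  let q : Ideal V := M.comap (algebraMap V T)
  haveI : q.IsPrime := inferInstance
  let A := Localization.AtPrime q
  let B := Localization.AtPrime M
  haveI : ValuationRing A := valuationRing_localization q
  letI : Algebra A B := (Localization.localRingHom q M (algebraMap V T) rfl).toAlgebra
  haveI : IsScalarTower V A B := IsScalarTower.of_algebraMap_eq fun x =>
    (Localization.localRingHom_to_map q M (algebraMap V T) rfl x).trans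
      (IsScalarTower.algebraMap_apply V T B x).symm |>.symm
  haveI : IsLocalHom (algebraMap A B) := Localization.isLocalHom_localRingHom q M (algebraMap V T) rfl
  haveI : Algebra.EssFiniteType V B := Algebra.EssFiniteType.comp V T B
  haveI : Algebra.EssFiniteType A B := Algebra.EssFiniteType.of_comp V A B
  haveI : Module.Flat V B := Module.Flat.trans V T B
  haveI : Module.Flat A B := (Module.flat_iff_of_isLocalization A q.primeCompl B).2 inferInstance
  have hmap : (IsLocalRing.maximalIdeal A).map (algebraMap A B) = (q.map (algebraMap V T)).map (algebraMap T B) := by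
    rw [← Localization.AtPrime.map_eq_maximalIdeal, Ideal.map_map, Ideal.map_map,
      ← IsScalarTower.algebraMap_eq, ← IsScalarTower.algebraMap_eq]
  have hrad : ((IsLocalRing.maximalIdeal A).map (algebraMap A B)).IsRadical := by
    rw [hmap]
    intro x hx
    obtain ⟨n, hn⟩ := hx
    obtain ⟨t, w, rfl⟩ := IsLocalization.exists_mk'_eq M.primeCompl x
    rw [← IsLocalization.mk'_pow] at hn
    obtain ⟨m, hm, hmn⟩ := (IsLocalization.mk'_mem_map_algebraMap_iff M.primeCompl B _ _ _).1 hn
    refine (IsLocalization.mk'_mem_map_algebraMap_iff M.primeCompl B _ _ _).2 ⟨m, hm, ?_⟩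
    rcases n with _ | n
    · rw [pow_zero, mul_one] at hmn
      exact Ideal.mul_mem_right _ _ hmn
    · refine hred q ⟨n + 1, ?_⟩
      rw [mul_pow, pow_succ m, mul_assoc]
      exact Ideal.mul_mem_left _ _ hmn
  have key := dvd_of_sq_eq_local (A := A) (B := B) hrad (s := algebraMap V A s) (b := algebraMap T B b) (by
    rw [← IsScalarTower.algebraMap_apply, IsScalarTower.algebraMap_apply V T B, ← map_mul, ← map_mul, hb])
  rw [← IsScalarTower.algebraMap_apply, IsScalarTower.algebraMap_apply V T B] at key
  rw [Ideal.map_span, Set.image_singleton]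
  exact Ideal.mem_span_singleton.2 key

variable {R : Type u} [CommRing R] (B : Type u) [CommRing B] [Algebra R B]

/-- The map `B ⊗ V → B ⊗ K` is injective for flat `B`. -/
theorem map_injective_of_flat [Module.Flat R B] {V K : Type u} [CommRing V] [Algebra R V] [CommRing K] [Algebra R K]
    (f : V →ₐ[R] K) (hf : Function.Injective f) :
    Function.Injective (Algebra.TensorProduct.map (AlgHom.id R B) f) :=
  Module.Flat.lTensor_preserves_injective_linearMap (M := B) f.toLinearMap hf

/-- Primes of a ring generate radical ideals in a flat algebra with reduced fibres. -/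
theorem isRadical_map_of_isReduced [Module.Flat R B]
    (hred : ∀ (K : Type u) [Field K] [Algebra R K], IsReduced (B ⊗[R] K))
    (V : Type u) [CommRing V] [Algebra R V] (q : Ideal V) [q.IsPrime] :
    (q.map (algebraMap V (V ⊗[R] B))).IsRadical := by
  let g : V →ₐ[R] V ⧸ q := Ideal.Quotient.mkₐ R q
  let h : V ⧸ q →ₐ[R] q.ResidueField :=
    { Ideal.Quotient.lift q (algebraMap V q.ResidueField) (fun a ha => Ideal.algebraMap_residueField_eq_zero.2 ha)
      with
      commutes' := fun r => by
        show Ideal.Quotient.lift q _ _ (Ideal.Quotient.mk q (algebraMap R V r)) = _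
        rw [Ideal.Quotient.lift_mk, ← IsScalarTower.algebraMap_apply] }
  have hh : Function.Injective h := by
    intro x y hxy
    obtain ⟨a, rfl⟩ := Ideal.Quotient.mk_surjective x
    obtain ⟨b, rfl⟩ := Ideal.Quotient.mk_surjective y
    rw [Ideal.Quotient.eq, ← Ideal.algebraMap_residueField_eq_zero, map_sub]
    exact sub_eq_zero.2 hxy
  intro x hx
  obtain ⟨n, hn⟩ := hx
  have hker : RingHom.ker (Algebra.TensorProduct.map g (AlgHom.id R B)) = q.map (algebraMap V (V ⊗[R] B)) := by
    rw [Algebra.TensorProduct.rTensor_ker g Ideal.Quotient.mk_surjective,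
      show RingHom.ker g = q from Ideal.mk_ker]
    rfl
  rw [← hker, RingHom.mem_ker] at hn ⊢
  let θ : (V ⧸ q) ⊗[R] B →ₐ[R] B ⊗[R] q.ResidueField :=
    (Algebra.TensorProduct.map (AlgHom.id R B) h).comp (Algebra.TensorProduct.comm R (V ⧸ q) B).toAlgHom
  have hθ : Function.Injective θ :=
    (map_injective_of_flat B h hh).comp (Algebra.TensorProduct.comm R (V ⧸ q) B).injective
  haveI := hred q.ResidueField
  refine hθ ?_
  rw [map_zero]
  exact IsReduced.eq_zero _ ⟨n, by rw [← map_pow, ← map_pow, hn, map_zero]⟩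

/-- A denominator for an element of `B ⊗ K`. -/
theorem exists_denominator (V K : Type u) [CommRing V] [IsDomain V] [Field K] [Algebra V K] [IsFractionRing V K]
    [Algebra R V] [Algebra R K] [IsScalarTower R V K] (x : B ⊗[R] K) :
    ∃ s : V, s ≠ 0 ∧ ∃ b : B ⊗[R] V, Algebra.TensorProduct.map (AlgHom.id R B) (IsScalarTower.toAlgHom R V K) b =
      (1 : B) ⊗ₜ[R] algebraMap V K s * x := by
  induction x using TensorProduct.induction_on with
  | zero => exact ⟨1, one_ne_zero, 0, by simp⟩
  | tmul b k =>
    obtain ⟨v, s, hs, rfl⟩ := IsFractionRing.div_surjective (A := V) k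
    refine ⟨s, nonZeroDivisors.ne_zero hs, b ⊗ₜ[R] v, ?_⟩
    rw [Algebra.TensorProduct.map_tmul, Algebra.TensorProduct.tmul_mul_tmul, one_mul]
    refine congrArg (b ⊗ₜ[R] ·) (mul_div_cancel₀ _ ?_).symm
    exact IsFractionRing.to_map_ne_zero_of_mem_nonZeroDivisors hs
  | add x y hx hy =>
    obtain ⟨s, hs, b, hb⟩ := hx
    obtain ⟨t, ht, c, hc⟩ := hy
    refine ⟨s * t, mul_ne_zero hs ht, (1 : B) ⊗ₜ[R] t * b + (1 : B) ⊗ₜ[R] s * c, ?_⟩
    have h1 : ∀ v : V, Algebra.TensorProduct.map (AlgHom.id R B) (IsScalarTower.toAlgHom R V K) ((1 : B) ⊗ₜ[R] v) =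
        (1 : B) ⊗ₜ[R] algebraMap V K v := fun v => by simp
    have h2 : ∀ k k' : K, (1 : B) ⊗ₜ[R] (k * k') = (1 : B) ⊗ₜ[R] k * ((1 : B) ⊗ₜ[R] k') := fun k k' => by simp
    rw [map_add, map_mul, map_mul, h1, h1, hb, hc, map_mul, h2, mul_add]
    ring

/-- Idempotents extend over a valuation ring when the fibres are reduced. -/
theorem exists_idempotent_valuation [Module.Flat R B] [Algebra.FiniteType R B]
    (hred : ∀ (K : Type u) [Field K] [Algebra R K], IsReduced (B ⊗[R] K))
    (V K : Type u) [CommRing V] [IsDomain V] [ValuationRing V] [Field K] [Algebra V K] [IsFractionRing V K]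
    [Algebra R V] [Algebra R K] [IsScalarTower R V K] {e : B ⊗[R] K} (he : IsIdempotentElem e) :
    ∃ c : B ⊗[R] V, IsIdempotentElem c ∧
      Algebra.TensorProduct.map (AlgHom.id R B) (IsScalarTower.toAlgHom R V K) c = e := by
  let ι := Algebra.TensorProduct.map (AlgHom.id R B) (IsScalarTower.toAlgHom R V K)
  have hι : Function.Injective ι := map_injective_of_flat B _ (IsFractionRing.injective V K)
  have h1 : ∀ v : V, ι ((1 : B) ⊗ₜ[R] v) = (1 : B) ⊗ₜ[R] algebraMap V K v := fun v => by simp [ι]
  obtain ⟨s, hs, b, hb⟩ := exists_denominator B V K e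
  let cm := Algebra.TensorProduct.comm R B V
  have hbb : b * b = (1 : B) ⊗ₜ[R] s * b := hι (by
    rw [map_mul, map_mul, hb, h1, ← mul_assoc, mul_assoc ((1 : B) ⊗ₜ[R] algebraMap V K s)]
    rw [show ((1 : B) ⊗ₜ[R] algebraMap V K s) * (e * ((1 : B) ⊗ₜ[R] algebraMap V K s)) * e =
      ((1 : B) ⊗ₜ[R] algebraMap V K s) * ((1 : B) ⊗ₜ[R] algebraMap V K s) * (e * e) by ring, he.eq, mul_assoc])
  have halg : cm ((1 : B) ⊗ₜ[R] s) = algebraMap V (V ⊗[R] B) s := rfl
  obtain ⟨c', hc'⟩ := dvd_of_sq_eq (fun q _ => isRadical_map_of_isReduced B hred V q) (s := s) (b := cm b) (by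
    rw [← map_mul, hbb, map_mul, halg])
  have hc : b = (1 : B) ⊗ₜ[R] s * cm.symm c' := cm.injective (by
    rw [map_mul, halg, cm.apply_symm_apply]; exact hc')
  have hu : IsUnit ((1 : B) ⊗ₜ[R] algebraMap V K s) :=
    (isUnit_iff_ne_zero.2 fun h => hs (IsFractionRing.injective V K (by rw [h, map_zero]))).map
      (Algebra.TensorProduct.includeRight : K →ₐ[R] B ⊗[R] K)
  have hce : ι (cm.symm c') = e := hu.mul_left_cancel (by rw [← h1, ← map_mul, ← hc]; exact hb.trans (by rw [h1]))
  exact ⟨cm.symm c', hι (by rw [map_mul, hce, he.eq]), hce⟩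

/-- A valuation ring of the algebraic closure between two primes. -/
theorem exists_valuation (t p : Ideal R) [t.IsPrime] [p.IsPrime] (htp : t ≤ p) (K : Type u) [Field K] [Algebra R K]
    (hK : RingHom.ker (algebraMap R K) = t) :
    ∃ (V : ValuationSubring K) (hV : ∀ r, algebraMap R K r ∈ V),
      ∀ r, (IsLocalRing.residue V) ⟨algebraMap R K r, hV r⟩ = 0 ↔ r ∈ p := by
  let S₀ := (algebraMap R K).range
  let P : Ideal S₀ := p.map (algebraMap R K).rangeRestrict
  have hker : RingHom.ker (algebraMap R K).rangeRestrict ≤ p := by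
    rw [RingHom.ker_rangeRestrict, hK]; exact htp
  haveI : P.IsPrime := Ideal.map_isPrime_of_surjective (RingHom.rangeRestrict_surjective _) hker
  obtain ⟨V, hV⟩ := (LocalSubring.ofPrime S₀ P).exists_le_valuationSubring
  have hmem : ∀ r, algebraMap R K r ∈ V := fun r => hV.1 (LocalSubring.le_ofPrime S₀ P ⟨r, rfl⟩)
  refine ⟨V, hmem, fun r => ?_⟩
  let O := (LocalSubring.ofPrime S₀ P).toSubring
  let x : S₀ := (algebraMap R K).rangeRestrict r
  have e : (⟨algebraMap R K r, hmem r⟩ : V) = Subring.inclusion hV.1 (algebraMap S₀ O x) := rfl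
  rw [IsLocalRing.residue_eq_zero_iff, e, IsLocalRing.mem_maximalIdeal, mem_nonunits_iff]
  haveI := hV.2
  have hu : IsUnit (Subring.inclusion hV.1 (algebraMap S₀ O x)) ↔ IsUnit (algebraMap S₀ O x) :=
    ⟨fun h => IsUnit.of_map (Subring.inclusion hV.1) _ h, fun h => h.map _⟩
  rw [hu, IsLocalization.AtPrime.isUnit_to_map_iff O P]
  show ¬ x ∉ P ↔ r ∈ p
  rw [not_not]
  constructor
  · intro h
    obtain ⟨r', hr', e'⟩ := (Ideal.mem_map_iff_of_surjective (algebraMap R K).rangeRestrict (RingHom.rangeRestrict_surjective _)).1 h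
    have := hker (show r - r' ∈ RingHom.ker (algebraMap R K).rangeRestrict by
      rw [RingHom.mem_ker, map_sub, sub_eq_zero]; exact e'.symm)
    simpa using add_mem this hr'
  · exact fun h => Ideal.mem_map_of_mem _ h

end Groth.L23.GeomConnLsc
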