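import Groth.Agent.L23.GeomConnLsc.Main

/-!
# An affine presentation of a flat finitely presented space over an affine scheme
-/

universe u

open CategoryTheory CategoryTheory.Limits AlgebraicGeometry AlgSp TopologicalSpace TensorProduct

set_option autoImplicit false
set_option linter.style.haveILetI false
set_option linter.unusedSectionVars false
set_option backward.isDefEq.respectTransparency false
set_option backward.isDefEq.respectTransparency.types false

noncomputable section

namespace Groth.L23.GeomConnLsc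

variable {S : Scheme.{u}} {R : Type u} [CommRing R] {φ : Spec (CommRingCat.of R) ⟶ S}

/-- An affine presentation by finitely presented flat algebras. -/
theorem exists_atlas_data {Z : Sp S} (hZ : IsAlgSpace Z) (π : Z ⟶ (yon S).obj (Over.mk φ)) (hπ : IsProperMor π)
    (hqc : IsQuasiCompactSp Z) (hfl : LocP @Flat π) (hlfp : LocP @LocallyOfFinitePresentation π) :
    ∃ (B C : Type u) (_ : CommRing B) (_ : CommRing C) (_ : Algebra R B) (_ : Algebra R C)
      (pW : (yon S).obj (specO φ B) ⟶ Z) (_ : pW ≫ π = (yon S).map (strO φ B)) (j₁ j₂ : B →ₐ[R] C),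
      RepWith @Etale pW ∧ RepWith @Surjective pW ∧
      IsPullback ((yon S).map (specMap (φ := φ) j₁)) ((yon S).map (specMap (φ := φ) j₂)) pW pW ∧
      Algebra.FinitePresentation R B ∧ Algebra.FinitePresentation R C ∧ Module.Flat R B ∧ Module.Flat R C := by
  obtain ⟨U, v, hUa, hv, hvs⟩ := Qs.exists_affine_atlas hZ hqc
  haveI := hUa
  obtain ⟨l, hl⟩ := (yon S).map_surjective (v ≫ π)
  obtain ⟨B, _, _, eB, heB⟩ := exists_specO_iso U l
  let pW := (yon S).map eB.hom ≫ v
  have hp : RepWith @Etale pW := repWith_comp (repWith_of_isIso _) hv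
  have hps : RepWith @Surjective pW := repWith_comp (repWith_of_isIso _) hvs
  have hpW : pW ≫ π = (yon S).map (strO φ B) := by rw [Category.assoc, ← hl, ← Functor.map_comp, heB]
  have hpaff : RepWith @IsAffineHom pW := by
    refine repWith_of_comp_diagonal (q := π) ?_
      (repWith_mono (fun φ' (_ : IsClosedImmersion φ') => inferInstanceAs (IsAffineHom φ')) hπ.1)
    rw [hpW]
    exact repWith_map (g := strO φ B)
      (inferInstanceAs (IsAffineHom (Spec.map (CommRingCat.ofHom (algebraMap R B)))))
  have sq0 := hp.1.isPullback pW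
  haveI : IsAffine (specO φ B).left := inferInstanceAs (IsAffine (Spec (CommRingCat.of B)))
  haveI : IsAffineHom (hp.1.snd pW).left := repWith_prop hpaff sq0
  haveI : IsAffine (hp.1.pullback pW).left := isAffine_of_isAffineHom (hp.1.snd pW).left
  obtain ⟨l₁, hl₁⟩ := (yon S).map_surjective (hp.1.fst pW)
  have hl₁₂ : l₁ ≫ strO φ B = hp.1.snd pW ≫ strO φ B := (yon S).map_injective (by
    rw [Functor.map_comp, Functor.map_comp, hl₁, ← hpW, reassoc_of% sq0.w])
  obtain ⟨C, _, _, eC, heC⟩ := exists_specO_iso (hp.1.pullback pW) (hp.1.snd pW ≫ strO φ B)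
  obtain ⟨j₁, hj₁⟩ := exists_specMap_eq (eC.hom ≫ l₁) (by rw [Category.assoc, hl₁₂, heC])
  obtain ⟨j₂, hj₂⟩ := exists_specMap_eq (eC.hom ≫ hp.1.snd pW) (by rw [Category.assoc, heC])
  have hR : IsPullback ((yon S).map (specMap (φ := φ) j₁)) ((yon S).map (specMap (φ := φ) j₂)) pW pW :=
    sq0.of_iso ((yon S).mapIso eC).symm (Iso.refl _) (Iso.refl _) (Iso.refl _)
      (by simp [hj₁, hl₁, ← Functor.map_comp_assoc]) (by simp [hj₂, ← Functor.map_comp_assoc]) (by simp) (by simp)
  let aC := (yon S).map (specMap (φ := φ) j₂) ≫ pW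
  have haC : RepWith @Etale aC := repWith_comp (repWith_of_isPullback hR hp) hp
  have hb : RepWith @Etale (𝟙 ((yon S).obj (Over.mk φ))) := repWith_id _ _
  have hB' : pW ≫ π = (yon S).map (strO φ B) ≫ 𝟙 _ := by rw [hpW, Category.comp_id]
  have hC' : aC ≫ π = (yon S).map (strO φ C) ≫ 𝟙 _ := by
    rw [Category.comp_id, Category.assoc, hpW, ← Functor.map_comp, specMap_str]
  have fB : Flat (Spec.map (CommRingCat.ofHom (algebraMap R B))) := hfl pW (𝟙 _) (strO φ B) hp hb hB'
  have fC : Flat (Spec.map (CommRingCat.ofHom (algebraMap R C))) := hfl aC (𝟙 _) (strO φ C) haC hb hC'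
  have pB : LocallyOfFinitePresentation (Spec.map (CommRingCat.ofHom (algebraMap R B))) :=
    hlfp pW (𝟙 _) (strO φ B) hp hb hB'
  have pC : LocallyOfFinitePresentation (Spec.map (CommRingCat.ofHom (algebraMap R C))) :=
    hlfp aC (𝟙 _) (strO φ C) haC hb hC'
  rw [HasRingHomProperty.Spec_iff (P := @Flat)] at fB fC
  rw [HasRingHomProperty.Spec_iff (P := @LocallyOfFinitePresentation)] at pB pC
  exact ⟨B, C, inferInstance, inferInstance, inferInstance, inferInstance, pW, hpW, j₁, j₂, hp, hps, hR,
    RingHom.finitePresentation_algebraMap.1 pB, RingHom.finitePresentation_algebraMap.1 pC,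
    RingHom.flat_algebraMap_iff.1 fB, RingHom.flat_algebraMap_iff.1 fC⟩

end Groth.L23.GeomConnLsc
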