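import Groth.Agent.S1366
import Mathlib.Topology.Connected.Clopen
import Mathlib.Topology.NoetherianSpace
import Mathlib.SetTheory.Cardinal.Finite

/-!
# Clopen parts: counting, and lifting from the closed fibre of a proper space over a henselian local ring
-/

universe u v

open CategoryTheory CategoryTheory.Limits AlgebraicGeometry Topology TopologicalSpace

set_option autoImplicit false
set_option linter.style.haveILetI false
set_option backward.isDefEq.respectTransparency false
set_option backward.isDefEq.respectTransparency.types false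

noncomputable section

namespace Groth.L23.GeomConnLsc

theorem le_card_components {α : Type v} [TopologicalSpace α] {m : ℕ} (O : Fin m → Set α)
    (hO : ∀ i, IsClopen (O i)) (hne : ∀ i, (O i).Nonempty) (hd : ∀ i j, i ≠ j → Disjoint (O i) (O j)) :
    (m : ℕ∞) ≤ ENat.card (ConnectedComponents α) := by
  choose x hx using hne
  have hinj : Function.Injective (fun i => (x i : ConnectedComponents α)) := fun i j e => by
    by_contra hij
    have h1 := (hO i).connectedComponent_subset (hx i)
    exact (hd i j hij).le_bot ⟨h1 (ConnectedComponents.coe_eq_coe'.1 e.symm), hx j⟩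
  have := ENat.card_le_card_of_injective hinj
  rwa [ENat.card_eq_coe_fintype_card, Fintype.card_fin] at this

theorem exists_clopens_of_le_card {α : Type v} [TopologicalSpace α] [NoetherianSpace α] {m : ℕ}
    (h : (m : ℕ∞) ≤ ENat.card (ConnectedComponents α)) :
    ∃ O : Fin m → Set α, (∀ i, IsClopen (O i)) ∧ (∀ i, (O i).Nonempty) ∧ ∀ i j, i ≠ j → Disjoint (O i) (O j) := by
  classical
  haveI : Finite (irreducibleComponents α) := NoetherianSpace.finite_irreducibleComponents.to_subtype
  haveI : Finite (ConnectedComponents α) := by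
    refine Finite.of_surjective
      (fun Z : irreducibleComponents α => (Z.2.1.nonempty.some : ConnectedComponents α)) fun c => ?_
    obtain ⟨x, rfl⟩ := ConnectedComponents.surjective_coe c
    refine ⟨⟨_, irreducibleComponent_mem_irreducibleComponents x⟩, ConnectedComponents.coe_eq_coe'.2 ?_⟩
    exact (isIrreducible_irreducibleComponent (x := x)).isConnected.isPreconnected.subset_connectedComponent
      mem_irreducibleComponent (irreducibleComponent_mem_irreducibleComponents x).1.nonempty.some_mem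
  haveI : Fintype (ConnectedComponents α) := Fintype.ofFinite _
  rw [ENat.card_eq_coe_fintype_card, Nat.cast_le] at h
  obtain ⟨e⟩ : Nonempty (Fin m ↪ ConnectedComponents α) :=
    Function.Embedding.nonempty_of_card_le (by simpa using h)
  refine ⟨fun i => ConnectedComponents.mk ⁻¹' {e i}, fun i => ?_, fun i => ?_, fun i j hij => ?_⟩
  · have hcl : ∀ c : ConnectedComponents α, IsClosed (ConnectedComponents.mk ⁻¹' {c}) := fun c => by
      obtain ⟨x, rfl⟩ := ConnectedComponents.surjective_coe c
      rw [connectedComponents_preimage_singleton]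
      exact isClosed_connectedComponent
    refine ⟨hcl _, isClosed_compl_iff.1 ?_⟩
    have : (ConnectedComponents.mk ⁻¹' {e i})ᶜ = ⋃ c ∈ ({e i}ᶜ : Set (ConnectedComponents α)),
        ConnectedComponents.mk ⁻¹' {c} := by
      ext x; simp
    rw [this]
    exact (Set.toFinite _).isClosed_biUnion fun c _ => hcl c
  · obtain ⟨x, hx⟩ := ConnectedComponents.surjective_coe (e i)
    exact ⟨x, hx⟩
  · rw [Set.disjoint_iff]
    rintro x ⟨hx, hx'⟩
    exact hij (e.injective (hx.symm.trans hx'))

section Henselian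

variable {A : Type u} [CommRing A] [IsLocalRing A] {P : Type v} [TopologicalSpace P]

theorem closedPoint_mem_of_isClosed {D : Set (PrimeSpectrum A)} (hD : IsClosed D) (hne : D.Nonempty) :
    IsLocalRing.closedPoint A ∈ D := by
  obtain ⟨x, hx⟩ := hne
  exact hD.closure_subset (closure_mono (Set.singleton_subset_iff.2 hx)
    ((PrimeSpectrum.le_iff_mem_closure x (IsLocalRing.closedPoint A)).1 (IsLocalRing.le_maximalIdeal x.2.ne_top)))

/-- Disjointness is detected on the closed fibre. -/
theorem disjoint_of_closedFibre {π : P → PrimeSpectrum A} (hπ : IsClosedMap π) {O O' : Set P} (hO : IsClosed O)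
    (hO' : IsClosed O') (h : ∀ x ∈ O ∩ O', π x ≠ IsLocalRing.closedPoint A) : Disjoint O O' := by
  rw [Set.disjoint_iff]
  intro x hx
  obtain ⟨y, hy, hyx⟩ := closedPoint_mem_of_isClosed (hπ _ (hO.inter hO')) ⟨π x, x, hx, rfl⟩
  exact h y hy hyx

variable [HenselianRing A (IsLocalRing.maximalIdeal A)] {Q : Scheme.{u}}
  (q : Q ⟶ Spec (CommRingCat.of A)) [IsProper q]

/-- Lifting a clopen part of the closed fibre, for a space under a proper scheme. -/
theorem exists_clopen_lift {π : P → PrimeSpectrum A} (hπ : IsClosedMap π) {g : Q → P} (hg : Continuous g)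
    (hgc : IsClosedMap g) (hgs : Function.Surjective g) (hgπ : ∀ t, π (g t) = q t) {Y : Set P}
    (hY : IsClosed Y) (hY' : IsClosed (π ⁻¹' {IsLocalRing.closedPoint A} \ Y))
    (hYs : Y ⊆ π ⁻¹' {IsLocalRing.closedPoint A}) :
    ∃ O : Set P, IsClopen O ∧ O ∩ π ⁻¹' {IsLocalRing.closedPoint A} = Y := by
  set I := IsLocalRing.maximalIdeal A
  set ι := Spec.map (CommRingCat.ofHom (Ideal.Quotient.mk I))
  haveI : IsClosedImmersion ι := IsClosedImmersion.spec_of_surjective _ Ideal.Quotient.mk_surjective
  have hι : Set.range ι = {IsLocalRing.closedPoint A} := by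
    show Set.range (PrimeSpectrum.comap (Ideal.Quotient.mk I)) = _
    rw [range_comap_of_surjective _ (Ideal.Quotient.mk I) Ideal.Quotient.mk_surjective, Ideal.mk_ker]
    ext x
    simp only [PrimeSpectrum.mem_zeroLocus, SetLike.coe_subset_coe, Set.mem_singleton_iff]
    exact ⟨fun h => PrimeSpectrum.ext ((IsLocalRing.maximalIdeal.isMaximal A).eq_of_le x.2.ne_top h).symm,
      fun h => by subst h; exact le_rfl⟩
  have hfst : ∀ z, g (pullback.fst q ι z) ∈ π ⁻¹' {IsLocalRing.closedPoint A} := fun z => by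
    show π (g (pullback.fst q ι z)) ∈ ({IsLocalRing.closedPoint A} : Set (PrimeSpectrum A))
    rw [hgπ, ← hι]
    exact ⟨pullback.snd q ι z,
      (congrArg (fun f : pullback q ι ⟶ _ => f z) (pullback.condition (f := q) (g := ι))).symm⟩
  let F := fun z : (pullback q ι : Scheme.{u}) => g (pullback.fst q ι z)
  have hF : Continuous F := hg.comp (pullback.fst q ι).continuous
  have hcompl : (F ⁻¹' Y)ᶜ = F ⁻¹' (π ⁻¹' {IsLocalRing.closedPoint A} \ Y) := by
    ext z
    exact ⟨fun h => ⟨hfst z, h⟩, fun h => h.2⟩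
  let Y' : Scheme.Opens (pullback q ι) :=
    ⟨F ⁻¹' Y, by rw [← isClosed_compl_iff, hcompl]; exact hY'.preimage hF⟩
  haveI : IsClosedImmersion Y'.ι := IsClosedImmersion.of_isPreimmersion _
    (by rw [Scheme.Opens.range_ι]; exact hY.preimage hF)
  obtain ⟨Wo, hWc, -, hWY⟩ := Groth.Agent.S1366.result I q Y' (hY.preimage hF) inferInstance
  have hWz : ∀ z, pullback.fst q ι z ∈ Wo ↔ F z ∈ Y := fun z => by
    have := SetLike.ext_iff.1 hWY z
    exact this
  have hkey : ∀ t : Q, q t = IsLocalRing.closedPoint A → (t ∈ Wo ↔ g t ∈ Y) := fun t ht => by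
    obtain ⟨x, hx⟩ := hι.ge (show q t ∈ ({IsLocalRing.closedPoint A} : Set (PrimeSpectrum A)) from ht)
    obtain ⟨z, rfl, -⟩ := Scheme.Pullback.exists_preimage_pullback (f := q) (g := ι) t x hx.symm
    exact hWz z
  have hA : IsClosed (g '' (Wo : Set Q)) := hgc _ hWc
  have hB : IsClosed (g '' (Wo : Set Q)ᶜ) := hgc _ Wo.isOpen.isClosed_compl
  have hdisj : Disjoint (g '' (Wo : Set Q)) (g '' (Wo : Set Q)ᶜ) := by
    refine disjoint_of_closedFibre hπ hA hB ?_
    rintro x ⟨⟨t, ht, rfl⟩, t', ht', e⟩ hx
    have h1 := (hkey t (by rw [← hgπ]; exact hx)).1 ht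
    exact ht' ((hkey t' (by rw [← hgπ, e]; exact hx)).2 (e ▸ h1))
  have hcompl' : (g '' (Wo : Set Q))ᶜ = g '' (Wo : Set Q)ᶜ := by
    apply subset_antisymm
    · intro x hx
      obtain ⟨t, rfl⟩ := hgs x
      exact ⟨t, fun ht => hx ⟨t, ht, rfl⟩, rfl⟩
    · exact fun x hx hx' => hdisj.le_bot ⟨hx', hx⟩
  refine ⟨_, ⟨hA, isClosed_compl_iff.1 (by rw [hcompl']; exact hB)⟩, ?_⟩
  ext x
  constructor
  · rintro ⟨⟨t, ht, rfl⟩, hx⟩
    exact (hkey t (by rw [← hgπ]; exact hx)).1 ht
  · intro hx
    obtain ⟨t, rfl⟩ := hgs x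
    exact ⟨⟨t, (hkey t (by rw [← hgπ]; exact hYs hx)).2 hx, rfl⟩, hYs hx⟩

end Henselian

end Groth.L23.GeomConnLsc
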