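import Groth.Agent.S10670
import Groth.Agent.L23.GeomConnLsc.Lift
import Groth.Agent.L23.Compact

/-!
# Fibres over field valued points: comparison and topology
-/

universe u

open CategoryTheory CategoryTheory.Limits AlgebraicGeometry AlgSp Topology TopologicalSpace

set_option autoImplicit false
set_option linter.style.haveILetI false
set_option linter.unusedSectionVars false
set_option backward.isDefEq.respectTransparency false
set_option backward.isDefEq.respectTransparency.types false

noncomputable section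

namespace Groth.L23.GeomConnLsc

variable {S : Scheme.{u}}

/-- The class of a field valued point. -/
theorem mk_eq_ofPt {F : Sp S} (k : FieldPt F) (t : ↥k.pt.left) : Points.mk k = Points.ofPt k.toHom t :=
  (Points.ofPt_toHom k t).symm

/-- A geometric point over any field valued point. -/
theorem exists_geometric {F : Sp S} {K : Type u} [Field K] {σ : Spec (CommRingCat.of K) ⟶ S}
    (x : (yon S).obj (Over.mk σ) ⟶ F) :
    ∃ (k : FieldPt F), k.IsGeometric ∧ Points.mk k = Points.ofPt x (IsLocalRing.closedPoint K) := by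
  let L := AlgebraicClosure K
  let m : Over.mk (Spec.map (CommRingCat.ofHom (algebraMap K L)) ≫ σ) ⟶ Over.mk σ :=
    Over.homMk (Spec.map (CommRingCat.ofHom (algebraMap K L))) rfl
  let k : FieldPt F := ⟨L, Spec.map (CommRingCat.ofHom (algebraMap K L)) ≫ σ,
    (J S).uliftYonedaEquiv ((yon S).map m ≫ x)⟩
  refine ⟨k, (inferInstanceAs (IsAlgClosed (AlgebraicClosure K))), ?_⟩
  rw [mk_eq_ofPt k (IsLocalRing.closedPoint L), show k.toHom = (yon S).map m ≫ x from Equiv.symm_apply_apply _ _,
    Groth.L23.ofPt_comp]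
  exact congrArg _ (@Subsingleton.elim (PrimeSpectrum K) _ _ _)

variable {X Y : AlgSp.Space S} (f : X ⟶ Y)

/-- Fibres over separably closed field points of one point have equally many components. -/
theorem card_eq_of_class {K K' : Type u} [Field K] [Field K'] [IsSepClosed K] [IsSepClosed K']
    {σ : Spec (CommRingCat.of K) ⟶ S} {σ' : Spec (CommRingCat.of K') ⟶ S}
    (x : (yon S).obj (Over.mk σ) ⟶ Y.obj) (x' : (yon S).obj (Over.mk σ') ⟶ Y.obj)
    (hxx : Points.ofPt x (IsLocalRing.closedPoint K) = Points.ofPt x' (IsLocalRing.closedPoint K'))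
    {F F' : Sp S} {a : F ⟶ X.obj} {b : F ⟶ (yon S).obj (Over.mk σ)} (h : IsPullback a b f.hom x)
    {a' : F' ⟶ X.obj} {b' : F' ⟶ (yon S).obj (Over.mk σ')} (h' : IsPullback a' b' f.hom x') :
    ENat.card (_root_.ConnectedComponents (Points F)) = ENat.card (_root_.ConnectedComponents (Points F')) := by
  let p : FieldPt Y.obj := ⟨K, σ, (J S).uliftYonedaEquiv x⟩
  let p' : FieldPt Y.obj := ⟨K', σ', (J S).uliftYonedaEquiv x'⟩
  have hp : p.toHom = x := Equiv.symm_apply_apply _ _
  have hp' : p'.toHom = x' := Equiv.symm_apply_apply _ _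
  have hrel : FieldPt.Rel p p' := Points.mk_eq_mk_iff.1 (by
    rw [mk_eq_ofPt p (IsLocalRing.closedPoint K), mk_eq_ofPt p' (IsLocalRing.closedPoint K'), hp, hp']
    exact hxx)
  obtain ⟨Ω, _, w, φ₁, φ₂, he⟩ := (Groth.L23.rel_iff_toHom _ _).1 hrel
  rw [hp, hp'] at he
  rw [← Groth.Agent.S10670.card_eq (Z := X) (Y := Y) f (σ := σ) (σK := w) φ₁ x h,
    ← Groth.Agent.S10670.card_eq (Z := X) (Y := Y) f (σ := σ') (σK := w) φ₂ x' h']
  exact congrArg (fun z => ENat.card (_root_.ConnectedComponents (Points (pullback f.hom z)))) he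

/-- The geometric fibre over a point may be computed at a geometric point of a scheme over the target. -/
theorem card_eq_of_geometric (k : FieldPt Y.obj) (hk : k.IsGeometric) {T : Sp S} (g : T ⟶ Y.obj) (k' : FieldPt T)
    (hk' : k'.IsGeometric) (hkk : Points.mk k = Points.map g (Points.mk k')) {F F' : Sp S} {a : F ⟶ X.obj}
    {b : F ⟶ (yon S).obj k.pt} (h : IsPullback a b f.hom k.toHom) {a' : F' ⟶ X.obj} {b' : F' ⟶ (yon S).obj k'.pt}
    (h' : IsPullback a' b' f.hom (k'.toHom ≫ g)) :
    ENat.card (_root_.ConnectedComponents (Points F)) = ENat.card (_root_.ConnectedComponents (Points F')) := by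
  haveI : IsAlgClosed k.K := hk
  haveI : IsAlgClosed k'.K := hk'
  refine card_eq_of_class f k.toHom (k'.toHom ≫ g) ?_ h h'
  rw [← mk_eq_ofPt, hkk, mk_eq_ofPt k' (IsLocalRing.closedPoint k'.K), Points.map_ofPt]

theorem noetherianSpace_of_proper {K : Type u} [Field K] {Q : Scheme.{u}} (q : Q ⟶ Spec (CommRingCat.of K))
    [IsProper q] : NoetherianSpace Q := by
  haveI := LocallyOfFiniteType.isLocallyNoetherian q
  haveI : CompactSpace Q := QuasiCompact.compactSpace_of_compactSpace q
  haveI : IsNoetherian Q := {}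
  infer_instance

/-- Over a closed point, the fibre is the closed set of points over it. -/
theorem fibre_embedding {Z : Sp S} (hZ : IsAlgSpace Z) {T₀ T : Over S} {ι : T₀ ⟶ T} [IsClosedImmersion ι.left]
    {F : Sp S} {a : F ⟶ Z} {b : F ⟶ (yon S).obj T₀} {π : Z ⟶ (yon S).obj T}
    (h : IsPullback a b π ((yon S).map ι)) :
    IsClosedEmbedding (Points.map a) ∧
      Set.range (Points.map a) = ((Points.schemeHomeo T).symm ∘ Points.map π) ⁻¹' Set.range ι.left := by
  have hr : Set.range (Points.map a) = ((Points.schemeHomeo T).symm ∘ Points.map π) ⁻¹' Set.range ι.left := by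
    rw [Groth.L23.range_fst_of_isPullback h, Set.preimage_comp]
    refine congrArg _ ?_
    rw [Groth.L23.range_map_yon]
    ext y
    constructor
    · rintro ⟨t, rfl⟩
      exact ⟨t, (Points.toScheme_ofPt ι t).symm⟩
    · rintro ⟨t, ht⟩
      refine ⟨t, ?_⟩
      rw [Groth.L23.ofPt_map, ht]
      exact (Points.schemeHomeo T).apply_symm_apply y
  refine ⟨⟨(Groth.L23.isEmbedding_map_of_immersion hZ (repWith_mono (fun φ (_ : IsClosedImmersion φ) =>
    inferInstanceAs (IsImmersion φ)) (Groth.L23.repWith_of_isPullback h.flip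
      (repWith_map (g := ι) (inferInstanceAs (IsClosedImmersion ι.left)))))).1, ?_⟩, hr⟩
  rw [hr]
  exact ι.left.isClosedEmbedding.isClosed_range.preimage
    ((Points.schemeHomeo T).symm.continuous.comp (Points.continuous_map π))

end Groth.L23.GeomConnLsc
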