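import Groth.Agent.L05.Henselization.AtPrime
import Groth.Agent.L05.Henselization.Local
import Groth.Agent.L03.ColimTensor
import Mathlib.FieldTheory.IsSepClosed

/-!
# The strictly henselian local ring at a prime, as a colimit of étale neighbourhoods
-/

universe u

open IsLocalRing Polynomial CategoryTheory

set_option autoImplicit false
set_option linter.style.haveILetI false
set_option backward.isDefEq.respectTransparency false

noncomputable section

namespace Groth.L23.GeomConnLsc

open Groth.L05.Henselization

variable {R : Type u} [CommRing R] (p : Ideal R) [p.IsPrime]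

/-- A separable closure of the residue field. -/
abbrev SepK : Type u := SeparableClosure p.ResidueField

/-- Surjectivity onto a separable closure of the residue field. -/
theorem ε_surjective : Function.Surjective (ε R (SepK p)) := by
  have hres : ∀ c : p.ResidueField, ∃ b, ε R (SepK p) b = algebraMap p.ResidueField (SepK p) c := by
    intro c
    obtain ⟨a, ⟨s, hs⟩, rfl⟩ := IsLocalization.exists_mk'_eq (nonZeroDivisors (R ⧸ p)) c
    obtain ⟨a, rfl⟩ := Ideal.Quotient.mk_surjective a
    obtain ⟨s, rfl⟩ := Ideal.Quotient.mk_surjective s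
    have hs' : algebraMap R p.ResidueField s ≠ 0 := by
      rw [Ne, Ideal.algebraMap_residueField_eq_zero, ← Ideal.Quotient.eq_zero_iff_mem]
      exact nonZeroDivisors.ne_zero hs
    have hmap : ∀ r : R, ε R (SepK p) (algebraMap R _ r) =
        algebraMap p.ResidueField (SepK p) (algebraMap R p.ResidueField r) := fun r => by
      rw [AlgHom.commutes, ← IsScalarTower.algebraMap_apply]
    obtain ⟨u, hu⟩ := isUnit_of_isUnit_ε (A := R) (K := SepK p) (b := algebraMap R _ s) (by
      rw [hmap]; exact (isUnit_iff_ne_zero.mpr hs').map _)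
    refine ⟨algebraMap R _ a * ↑u⁻¹, ?_⟩
    have h1 : ε R (SepK p) (algebraMap R _ a * ↑u⁻¹) * ε R (SepK p) (algebraMap R _ s) =
        ε R (SepK p) (algebraMap R _ a) := by
      rw [← hu, ← map_mul, mul_assoc, Units.inv_mul, mul_one]
    rw [hmap, hmap] at h1
    refine mul_right_cancel₀ ((map_ne_zero (algebraMap p.ResidueField (SepK p))).2 hs') (h1.trans ?_)
    rw [← map_mul]
    refine congrArg _ ?_
    exact (IsLocalization.mk'_spec p.ResidueField (Ideal.Quotient.mk p a)
      (⟨Ideal.Quotient.mk p s, hs⟩ : nonZeroDivisors (R ⧸ p))).symm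
  intro x
  let q := minpoly p.ResidueField x
  have hqm : q.Monic := minpoly.monic (Algebra.IsSeparable.isIntegral p.ResidueField x)
  have hlift : q.map (algebraMap p.ResidueField (SepK p)) ∈ Polynomial.lifts (ε R (SepK p)).toRingHom := by
    rw [Polynomial.lifts_iff_coeff_lifts]
    intro n
    obtain ⟨b, hb⟩ := hres (q.coeff n)
    exact ⟨b, by rw [Polynomial.coeff_map]; exact hb⟩
  obtain ⟨F, hF, -, hFm⟩ := Polynomial.lifts_and_natDegree_eq_and_monic hlift (hqm.map _)
  classical
  obtain ⟨X, hX⟩ := exists_lift_finset F.coeffs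
  have hF' : F ∈ Polynomial.lifts (ι X).toRingHom := by
    rw [Polynomial.lifts_iff_coeff_lifts]
    intro n
    by_cases hn : F.coeff n = 0
    · exact ⟨0, by rw [hn]; exact map_zero _⟩
    · exact hX _ (Polynomial.coeff_mem_coeffs hn)
  obtain ⟨G, hG, -, hGm⟩ := Polynomial.lifts_and_natDegree_eq_and_monic hF' hFm
  letI : Algebra X.R (SepK p) := X.φ.toRingHom.toAlgebra
  haveI : IsScalarTower R X.R (SepK p) := ⟨fun r y z => by
    show X.φ (r • y) * z = r • (X.φ y * z)
    rw [map_smul, smul_mul_assoc]⟩
  let P : StandardEtalePair X.R :=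
    { f := G, monic_f := hGm, g := derivative G, cond := ⟨1, 0, 1, by ring⟩ }
  have hev : ∀ H : Polynomial X.R, aeval x H = (H.map X.φ.toRingHom).eval x := fun H => by
    rw [Polynomial.aeval_def, Polynomial.eval_map]; rfl
  have hGq : G.map X.φ.toRingHom = q.map (algebraMap p.ResidueField (SepK p)) := by
    rw [← hF, ← hG, Polynomial.map_map]
    congr 1
    exact RingHom.ext fun y => (ε_ι X y).symm
  have hmap : P.HasMap x := by
    refine ⟨?_, ?_⟩
    · show aeval x G = 0
      rw [hev, hGq, Polynomial.eval_map]
      exact minpoly.aeval _ x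
    · show IsUnit (aeval x (derivative G))
      rw [hev, ← Polynomial.derivative_map, hGq, Polynomial.derivative_map, isUnit_iff_ne_zero, Polynomial.eval_map]
      exact (Algebra.IsSeparable.isSeparable p.ResidueField x).aeval_derivative_ne_zero (minpoly.aeval _ _)
  letI : Algebra R P.Ring := ((algebraMap X.R P.Ring).comp (algebraMap R X.R)).toAlgebra
  haveI : IsScalarTower R X.R P.Ring := ⟨fun r y z => by
    have h : r • y = algebraMap R X.R r * y := Algebra.smul_def r y
    rw [Algebra.smul_def (r • y) z, h, map_mul, mul_assoc, Algebra.smul_def y z]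
    rfl⟩
  haveI : Algebra.Etale R P.Ring := Algebra.Etale.comp R X.R P.Ring
  obtain ⟨g, hg⟩ := range_ι_of_etale (A := R) (K := SepK p) ((P.lift x hmap).restrictScalars R)
  exact ⟨g P.X, (DFunLike.congr_fun hg P.X).trans (P.lift_X x hmap)⟩

instance : IsLocalRing (Col R (SepK p)) := isLocalRing_col R (SepK p)

theorem maximalIdeal_eq : maximalIdeal (Col R (SepK p)) = RingHom.ker (ε R (SepK p)) :=
  haveI := RingHom.ker_isMaximal_of_surjective _ (ε_surjective p)
  (eq_maximalIdeal inferInstance).symm

/-- The colimit is henselian along its maximal ideal. -/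
theorem henselianRing_max : HenselianRing (Col R (SepK p)) (maximalIdeal (Col R (SepK p))) := by
  rw [maximalIdeal_eq]
  exact henselianRing_ker_ε (ε_surjective p)

/-- The stages form a filtered system with that colimit. -/
theorem isColim : Groth.L03.SmoothStage.IsColim (B := R) (fun X : Obj R (SepK p) => X.R) (fun X => ι X) := by
  refine ⟨IsFiltered.nonempty, fun X Y => ?_, fun b => ?_, fun X x hx => ?_⟩
  · obtain ⟨Z, f, g, -⟩ := IsFilteredOrEmpty.cocone_objs X Y
    exact ⟨Z, f.1, g.1, AlgHom.ext fun x => ι_map f x, AlgHom.ext fun x => ι_map g x⟩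
  · obtain ⟨X, x, hx⟩ := ι_surj b
    exact ⟨X, x, hx⟩
  · obtain ⟨Z, f, hf⟩ := ι_eq (x := x) (y := 0) (by rw [hx, map_zero])
    exact ⟨Z, f.1, AlgHom.ext fun x => ι_map f x, by rw [hf, map_zero]⟩

/-- The point of a stage lies over the prime. -/
theorem comap_point (X : Obj R (SepK p)) : p = (RingHom.ker X.φ).comap (algebraMap R X.R) := by
  ext r
  rw [Ideal.mem_comap, RingHom.mem_ker, X.φ.commutes, IsScalarTower.algebraMap_apply R p.ResidueField (SepK p),
    map_eq_zero, Ideal.algebraMap_residueField_eq_zero]

end Groth.L23.GeomConnLsc
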