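import Groth.Agent.L23.GeomConnLsc.Stage
import Groth.Agent.L23.GeomConnLsc.Compare
import Groth.Agent.L23.GeomConnLsc.StrictPoint
import Groth.Agent.L23.PhProper
import Groth.Agent.L23.MorCalc
import Groth.Agent.L23.QsTop
import Groth.Agent.L09.SpLimit.Derived

/-!
# Affine presentations over an affine base, and the base changes of a proper scheme cover
-/

universe u

open CategoryTheory CategoryTheory.Limits AlgebraicGeometry AlgSp TopologicalSpace TensorProduct

set_option autoImplicit false
set_option linter.style.haveILetI false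
set_option linter.unusedSectionVars false
set_option backward.isDefEq.respectTransparency false
set_option backward.isDefEq.respectTransparency.types false

noncomputable section

namespace Groth.L23.GeomConnLsc

variable {S : Scheme.{u}} {R : Type u} [CommRing R] {φ : Spec (CommRingCat.of R) ⟶ S}

/-- An affine scheme over `Spec R` is the spectrum of an algebra. -/
theorem exists_specO_iso (V : Over S) [IsAffine V.left] (s : V ⟶ Over.mk φ) :
    ∃ (C : Type u) (_ : CommRing C) (_ : Algebra R C) (e : specO φ C ≅ V), e.hom ≫ s = strO φ C := by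
  let C : Type u := Γ(V.left, ⊤)
  let ψ : Spec (CommRingCat.of C) ⟶ Spec (CommRingCat.of R) := V.left.isoSpec.inv ≫ s.left
  letI : Algebra R C := (Spec.preimage ψ).hom.toAlgebra
  have hψ : Spec.map (CommRingCat.ofHom (algebraMap R C)) = ψ := Spec.map_preimage ψ
  refine ⟨C, inferInstance, inferInstance, Over.isoMk V.left.isoSpec.symm ?_, Over.OverMorphism.ext ?_⟩
  · show V.left.isoSpec.inv ≫ V.hom = Spec.map (CommRingCat.ofHom (algebraMap R C)) ≫ φ
    rw [hψ, Category.assoc]
    exact congrArg (V.left.isoSpec.inv ≫ ·) (Over.w s).symm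
  · exact hψ.symm

/-- A map of spectra over `Spec R` comes from a map of algebras. -/
theorem exists_specMap_eq {E E' : Type u} [CommRing E] [Algebra R E] [CommRing E'] [Algebra R E']
    (m : specO φ E' ⟶ specO φ E) (hm : m ≫ strO φ E = strO φ E') : ∃ f : E →ₐ[R] E', specMap f = m := by
  let g : CommRingCat.of E ⟶ CommRingCat.of E' := Spec.preimage (m.left : Spec (CommRingCat.of E') ⟶ Spec (CommRingCat.of E))
  have hg : CommRingCat.ofHom (algebraMap R E) ≫ g = CommRingCat.ofHom (algebraMap R E') := by
    apply Spec.map_injective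
    rw [Spec.map_comp, Spec.map_preimage]
    exact congrArg CommaMorphism.left hm
  refine ⟨{ g.hom with commutes' := fun r => congr($(hg).hom r) }, Over.OverMorphism.ext ?_⟩
  exact Spec.map_preimage _

variable {Z : Sp S} (π : Z ⟶ (yon S).obj (Over.mk φ))

/-- The map of base changes along a map of algebras. -/
def zMap {E E' : Type u} [CommRing E] [Algebra R E] [CommRing E'] [Algebra R E'] (f : E →ₐ[R] E') :
    ZE π E' ⟶ ZE π E :=
  pullback.lift (pullback.fst _ _) (pullback.snd _ _ ≫ (yon S).map (specMap f))
    (by rw [Category.assoc, ← Functor.map_comp, specMap_str, pullback.condition])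

theorem isPullback_zMap {E E' : Type u} [CommRing E] [Algebra R E] [CommRing E'] [Algebra R E'] (f : E →ₐ[R] E') :
    IsPullback (zMap π f) (pullback.snd π ((yon S).map (strO φ E'))) (pullback.snd π ((yon S).map (strO φ E)))
      ((yon S).map (specMap f)) := by
  refine IsPullback.of_right ?_ (pullback.lift_snd _ _ _) (IsPullback.of_hasPullback π _)
  rw [zMap, pullback.lift_fst, ← Functor.map_comp, specMap_str]
  exact IsPullback.of_hasPullback π _

theorem isAlgSpace_ZE (hZ : IsAlgSpace Z) (E : Type u) [CommRing E] [Algebra R E] : IsAlgSpace (ZE π E) :=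
  isAlgSpace_of_isPullback (IsAlgSpace.yon_obj (Over.mk φ)).diag hZ (IsAlgSpace.yon_obj _)
    (IsPullback.of_hasPullback π _)

/-- The space over an algebra is covered by a proper scheme, compatibly with the maps to the spectrum. -/
theorem exists_base_cover (hZ : IsAlgSpace Z) (hπ : IsProperMor π) (E : Type u) [CommRing E] [Algebra R E] :
    ∃ (Q : Scheme.{u}) (q : Q ⟶ Spec (CommRingCat.of E)) (g : Q → Points (ZE π E)),
      IsProper q ∧ Continuous g ∧ IsClosedMap g ∧ Function.Surjective g ∧ (∀ t, πE π E (g t) = q t) ∧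
      IsClosedMap (πE π E) := by
  have hE := IsAlgSpace.yon_obj (specO φ E)
  have hP := isAlgSpace_ZE π hZ E
  have hπE : IsProperMor (pullback.snd π ((yon S).map (strO φ E))) :=
    isProperMor_of_isPullback hZ (IsAlgSpace.yon_obj _) hE (IsPullback.of_hasPullback π _) hπ
  haveI : IsAffine (specO φ E).left := inferInstanceAs (IsAffine (Spec (CommRingCat.of E)))
  obtain ⟨Q, a, m, hm, hmp, ha, has⟩ := PhProper.exists_scheme_proper_cover (specO φ E).hom hP
    (pullback.snd π ((yon S).map (strO φ E))) hπE
  have hc : ∀ {F G : Sp S} (h : F ⟶ G), IsAlgSpace G → IsUnivClosedMor h → IsClosedMap (Points.map h) :=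
    fun {F G} h hG hh => hh hG (𝟙 G) (𝟙 F) h IsPullback.of_id_fst
  refine ⟨Q.left, m.left, Points.ofPt a, hmp, Points.continuous_ofPt a, ?_, ?_, fun t => ?_,
    (Points.schemeHomeo (specO φ E)).symm.isClosedMap.comp (hc _ hE hπE.2.2)⟩
  · rw [ofPt_eq_comp]
    exact (hc _ hP ha.2.2).comp (Points.schemeHomeo Q).isClosedMap
  · rw [ofPt_eq_comp]
    exact has.comp (Points.schemeEquiv Q).surjective
  · have h1 : Points.map (pullback.snd π ((yon S).map (strO φ E))) (Points.ofPt a t) = Points.ofPt ((yon S).map m) t := by
      rw [Points.map_ofPt]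
      exact congrArg (fun h => Points.ofPt h t) hm.symm
    rw [πE, h1]
    exact Points.toScheme_ofPt m t

end Groth.L23.GeomConnLsc
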