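import Groth.Agent.L03.SmoothStage
import Mathlib.RingTheory.FinitePresentation
import Mathlib.RingTheory.TensorProduct.Basic

/-!
# An algebra is the filtered colimit of finitely presented algebras mapping to it
-/

universe u

set_option autoImplicit false
set_option linter.style.haveILetI false
set_option backward.isDefEq.respectTransparency false
set_option backward.isDefEq.respectTransparency.types false

open TensorProduct

namespace Groth.L23.GeomConnLsc

variable (R : Type u) [CommRing R] (A : Type u) [CommRing A] [Algebra R A]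

/-- A presented algebra with a map to `A`. -/
structure FpObj : Type u where
  /-- number of generators -/
  n : ℕ
  /-- relations -/
  rel : Ideal (MvPolynomial (Fin n) R)
  fg : rel.FG
  /-- the map to `A` -/
  φ : (MvPolynomial (Fin n) R ⧸ rel) →ₐ[R] A

/-- The algebra of a presented object. -/
abbrev FpObj.R' {R : Type u} [CommRing R] {A : Type u} [CommRing A] [Algebra R A] (X : FpObj R A) : Type u :=
  MvPolynomial (Fin X.n) R ⧸ X.rel

theorem finitePresentation_fpObj (X : FpObj R A) : Algebra.FinitePresentation R X.R' :=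
  Algebra.FinitePresentation.quotient X.fg

variable {R A} in
theorem exists_fpObj (E : Type u) [CommRing E] [Algebra R E] [Algebra.FinitePresentation R E] (ψ : E →ₐ[R] A) :
    ∃ (X : FpObj R A) (e : E ≃ₐ[R] X.R'), X.φ.comp e.toAlgHom = ψ := by
  obtain ⟨n, π, hπ, hker⟩ := Algebra.FinitePresentation.out (R := R) (A := E)
  let e := (Ideal.quotientKerAlgEquivOfSurjective hπ).symm
  refine ⟨⟨n, RingHom.ker π, hker, ψ.comp e.symm.toAlgHom⟩, e, ?_⟩
  ext x
  exact congrArg ψ (e.symm_apply_apply x)

theorem isColim_fp : Groth.L03.SmoothStage.IsColim (B := R) (fun X : FpObj R A => X.R') (fun X => X.φ) := by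
  refine ⟨?_, fun X Y => ?_, fun a => ?_, fun X x hx => ?_⟩
  · exact ⟨(exists_fpObj (R := R) (A := A) R (Algebra.ofId R A)).choose⟩
  · haveI := finitePresentation_fpObj R A X
    haveI := finitePresentation_fpObj R A Y
    haveI : Algebra.FinitePresentation X.R' (X.R' ⊗[R] Y.R') := Algebra.FinitePresentation.baseChange _
    haveI : Algebra.FinitePresentation R (X.R' ⊗[R] Y.R') := Algebra.FinitePresentation.trans R X.R' (X.R' ⊗[R] Y.R')
    obtain ⟨Z, e, he⟩ := exists_fpObj (X.R' ⊗[R] Y.R')
      (Algebra.TensorProduct.lift X.φ Y.φ fun _ _ => Commute.all _ _)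
    refine ⟨Z, e.toAlgHom.comp Algebra.TensorProduct.includeLeft, e.toAlgHom.comp Algebra.TensorProduct.includeRight,
      ?_, ?_⟩ <;>
    · rw [← AlgHom.comp_assoc, he]
      ext x
      simp
  · obtain ⟨X, e, he⟩ := exists_fpObj (MvPolynomial (Fin 1) R) (MvPolynomial.aeval fun _ => a)
    exact ⟨X, e (MvPolynomial.X 0), (DFunLike.congr_fun he (MvPolynomial.X 0)).trans (MvPolynomial.aeval_X _ _)⟩
  · haveI := finitePresentation_fpObj R A X
    let J : Ideal X.R' := Ideal.span {x}
    haveI : Algebra.FinitePresentation R (X.R' ⧸ J) := Algebra.FinitePresentation.quotient ⟨{x}, by simp [J]⟩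
    obtain ⟨Z, e, he⟩ := exists_fpObj (X.R' ⧸ J) (Ideal.Quotient.liftₐ J X.φ fun y hy => by
      obtain ⟨c, rfl⟩ := Ideal.mem_span_singleton'.1 hy
      rw [map_mul, hx, mul_zero])
    refine ⟨Z, e.toAlgHom.comp (Ideal.Quotient.mkₐ R J), ?_, ?_⟩
    · rw [← AlgHom.comp_assoc, he]
      exact Ideal.Quotient.liftₐ_comp _ _ _
    · show e (Ideal.Quotient.mk J x) = 0
      rw [Ideal.Quotient.eq_zero_iff_mem.2 (Ideal.mem_span_singleton_self x), map_zero]

end Groth.L23.GeomConnLsc
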