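import Groth.Agent.L23.GeomConnLsc.Base
import Mathlib.FieldTheory.IsSepClosed
import Mathlib.RingTheory.RingHom.Etale

/-!
# The number of geometric connected components of a proper flat space is lower semicontinuous
-/

universe u

open CategoryTheory CategoryTheory.Limits AlgebraicGeometry AlgSp TopologicalSpace TensorProduct

set_option autoImplicit false
set_option linter.style.haveILetI false
set_option linter.unusedSectionVars false
set_option backward.isDefEq.respectTransparency false
set_option backward.isDefEq.respectTransparency.types false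

noncomputable section

namespace Groth.L23.GeomConnLsc

open Groth.L05.Henselization

variable {S : Scheme.{u}} {R : Type u} [CommRing R] {φ : Spec (CommRingCat.of R) ⟶ S}

/-- Clopen parts of a strictly henselian fibre spread out to an étale neighbourhood. -/
theorem exists_stage_clopens {Z : Sp S} (hZ : IsAlgSpace Z) (π : Z ⟶ (yon S).obj (Over.mk φ)) (hπ : IsProperMor π)
    (hqc : IsQuasiCompactSp Z) (p : Ideal R) [p.IsPrime] {m : ℕ}
    (hm : (m : ℕ∞) ≤ ENat.card (_root_.ConnectedComponents (Points (ZE π (SepK p))))) :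
    ∃ (X : Obj R (SepK p)) (O : Fin m → Set (Points (ZE π X.R))), (∀ i, IsClopen (O i)) ∧
      (∀ i j, i ≠ j → Disjoint (O i) (O j)) ∧
      ∀ i, ∃ x ∈ O i, πE π X.R x = ⟨RingHom.ker X.φ, RingHom.ker_isPrime _⟩ := by
  classical
  -- the atlas
  obtain ⟨U, v, hUa, hv, hvs⟩ := Qs.exists_affine_atlas hZ hqc
  haveI := hUa
  obtain ⟨l, hl⟩ := (yon S).map_surjective (v ≫ π)
  obtain ⟨B, _, _, eB, heB⟩ := exists_specO_iso U l
  let pW := (yon S).map eB.hom ≫ v
  have hp : RepWith @Etale pW := repWith_comp (repWith_of_isIso _) hv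
  have hps : RepWith @Surjective pW := repWith_comp (repWith_of_isIso _) hvs
  have hpW : pW ≫ π = (yon S).map (strO φ B) := by rw [Category.assoc, ← hl, ← Functor.map_comp, heB]
  have hpaff : RepWith @IsAffineHom pW := by
    refine repWith_of_comp_diagonal (q := π) ?_
      (repWith_mono (fun φ' (_ : IsClosedImmersion φ') => inferInstanceAs (IsAffineHom φ')) hπ.1)
    rw [hpW]
    exact repWith_map (g := strO φ B)
      (inferInstanceAs (IsAffineHom (Spec.map (CommRingCat.ofHom (algebraMap R B)))))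
  have sq0 := hp.1.isPullback pW
  haveI : IsAffine (specO φ B).left := inferInstanceAs (IsAffine (Spec (CommRingCat.of B)))
  haveI : IsAffineHom (hp.1.snd pW).left := repWith_prop hpaff sq0
  haveI : IsAffine (hp.1.pullback pW).left := isAffine_of_isAffineHom (hp.1.snd pW).left
  obtain ⟨l₁, hl₁⟩ := (yon S).map_surjective (hp.1.fst pW)
  have hl₁₂ : l₁ ≫ strO φ B = hp.1.snd pW ≫ strO φ B := (yon S).map_injective (by
    rw [Functor.map_comp, Functor.map_comp, hl₁, ← hpW, reassoc_of% sq0.w])
  obtain ⟨C, _, _, eC, heC⟩ := exists_specO_iso (hp.1.pullback pW) (hp.1.snd pW ≫ strO φ B)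
  obtain ⟨j₁, hj₁⟩ := exists_specMap_eq (eC.hom ≫ l₁) (by rw [Category.assoc, hl₁₂, heC])
  obtain ⟨j₂, hj₂⟩ := exists_specMap_eq (eC.hom ≫ hp.1.snd pW) (by rw [Category.assoc, heC])
  have hR : IsPullback ((yon S).map (specMap (φ := φ) j₁)) ((yon S).map (specMap (φ := φ) j₂)) pW pW :=
    sq0.of_iso ((yon S).mapIso eC).symm (Iso.refl _) (Iso.refl _) (Iso.refl _)
      (by simp [hj₁, hl₁, ← Functor.map_comp_assoc]) (by simp [hj₂, ← Functor.map_comp_assoc]) (by simp) (by simp)
  -- the strictly henselian ring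
  let A := Col R (SepK p)
  haveI := henselianRing_max p
  let ε' : A →ₐ[R] SepK p := ε R (SepK p)
  haveI : IsClosedImmersion (specMap (φ := φ) ε').left :=
    IsClosedImmersion.spec_of_surjective (CommRingCat.ofHom ε'.toRingHom) (ε_surjective p)
  obtain ⟨hemb, hrange⟩ := fibre_embedding (isAlgSpace_ZE π hZ A) (isPullback_zMap π ε')
  have hcp : Set.range (specMap (φ := φ) ε').left = ({IsLocalRing.closedPoint A} : Set (PrimeSpectrum A)) := by
    show Set.range (PrimeSpectrum.comap ε'.toRingHom) = _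
    haveI : Unique (PrimeSpectrum (SepK p)) := PrimeSpectrum.instUnique
    rw [Set.range_unique, Set.singleton_eq_singleton_iff]
    refine PrimeSpectrum.ext ?_
    show (default : PrimeSpectrum (SepK p)).asIdeal.comap ε'.toRingHom = IsLocalRing.maximalIdeal A
    rw [maximalIdeal_eq, show (default : PrimeSpectrum (SepK p)).asIdeal = ⊥ from
      (Ideal.eq_bot_or_top _).resolve_right (default : PrimeSpectrum (SepK p)).2.ne_top]
    rfl
  have hrange' : Set.range (Points.map (zMap π ε')) = πE π A ⁻¹' {IsLocalRing.closedPoint A} := by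
    rw [hrange, ← hcp]; rfl
  obtain ⟨QK, qK, gK, hqK, hgKc, -, hgKs, -, -⟩ := exists_base_cover π hZ hπ (SepK p)
  haveI : NoetherianSpace QK := noetherianSpace_of_proper qK
  haveI : NoetherianSpace (Points (ZE π (SepK p))) :=
    TopologicalSpace.noetherianSpace_of_surjective gK hgKc hgKs
  obtain ⟨O₀, hO₀, hO₀ne, hO₀d⟩ := exists_clopens_of_le_card hm
  obtain ⟨Q, q, g, hq, hgc, hgcl, hgs, hgπ, hπcl⟩ := exists_base_cover π hZ hπ A
  have hlift : ∀ i, ∃ O : Set (Points (ZE π A)),
      IsClopen O ∧ O ∩ πE π A ⁻¹' {IsLocalRing.closedPoint A} = Points.map (zMap π ε') '' O₀ i := fun i => by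
    refine exists_clopen_lift q hπcl hgc hgcl hgs hgπ (hemb.isClosedMap _ (hO₀ i).isClosed) ?_ ?_
    · rw [← hrange', ← Set.image_univ, ← Set.image_sdiff hemb.injective]
      exact hemb.isClosedMap _ (by rw [← Set.compl_eq_univ_sdiff]; exact (hO₀ i).isOpen.isClosed_compl)
    · rw [← hrange']; exact Set.image_subset_range _ _
  choose OA hOA hOAY using hlift
  have hOAd : ∀ i j, i ≠ j → Disjoint (OA i) (OA j) := fun i j hij => by
    refine disjoint_of_closedFibre hπcl (hOA i).isClosed (hOA j).isClosed ?_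
    rintro x ⟨hxi, hxj⟩ hx
    obtain ⟨a, ha, rfl⟩ := (hOAY i).subset ⟨hxi, hx⟩
    obtain ⟨b, hb, hab⟩ := (hOAY j).subset ⟨hxj, hx⟩
    exact (hO₀d i j hij).le_bot ⟨ha, hemb.injective hab ▸ hb⟩
  -- idempotents
  have hidem := fun i => idempotent_of_clopen π hpW A hR hp hps (hOA i)
  choose e he hepre hej using hidem
  have horth : ∀ i j, i ≠ j → e i * e j = 0 := fun i j hij => by
    refine PrimeSpectrum.basicOpen_injOn_isIdempotentElem ((he i).mul (he j)) IsIdempotentElem.zero
      (TopologicalSpace.Opens.ext ?_)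
    ext u
    simp only [PrimeSpectrum.basicOpen_zero, TopologicalSpace.Opens.coe_bot, Set.mem_empty_iff_false, iff_false]
    intro hu
    have hu' : e i ∉ u.asIdeal ∧ e j ∉ u.asIdeal :=
      ⟨fun h => hu (Ideal.mul_mem_right _ _ h), fun h => hu (Ideal.mul_mem_left _ _ h)⟩
    exact (hOAd i j hij).le_bot ⟨(Set.ext_iff.1 (hepre i) u).2 hu'.1, (Set.ext_iff.1 (hepre j) u).2 hu'.2⟩
  obtain ⟨X, z, hz, hzi, hzo, hzj⟩ := exists_idempotents_stage (isColim p) j₁ j₂ e he horth hej
  have hcl := fun i => clopen_of_idempotent π hpW X.R hR hp hps (hzi i) (hzj i)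
  refine ⟨X, fun i => _, fun i => (hcl i).1, fun i j hij => ?_, fun i => ?_⟩
  · rw [Set.disjoint_iff]
    rintro x ⟨⟨a, ha, rfl⟩, hb⟩
    have hb' : a ∈ basicSet φ (z j) := (hcl j).2.subset hb
    have hab : z i * z j ∉ (show PrimeSpectrum (B ⊗[R] X.R) from a).asIdeal :=
      fun h => ((show PrimeSpectrum (B ⊗[R] X.R) from a).2.mem_or_mem h).elim ha hb'
    rw [hzo i j hij] at hab
    exact hab (zero_mem _)
  · obtain ⟨a, ha⟩ := hO₀ne i
    have hx : Points.map (zMap π ε') a ∈ OA i ∩ πE π A ⁻¹' {IsLocalRing.closedPoint A} :=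
      (hOAY i).symm.subset ⟨a, ha, rfl⟩
    obtain ⟨w, hw⟩ := (isOpenQuotientMap_pE π hpW A hp hps).surjective (Points.map (zMap π ε') a)
    have hwe : e i ∉ (show PrimeSpectrum (B ⊗[R] A) from w).asIdeal :=
      (Set.ext_iff.1 (hepre i) w).1 (by show _ ∈ OA i; rw [hw]; exact hx.1)
    refine ⟨Points.ofPt (pE π hpW X.R)
      (PrimeSpectrum.comap (Algebra.TensorProduct.map (AlgHom.id R B) (Groth.L05.Henselization.ι X)).toRingHom w),
      ⟨_, ?_, rfl⟩, ?_⟩
    · show Algebra.TensorProduct.map (AlgHom.id R B) (Groth.L05.Henselization.ι X) (z i) ∉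
        (show PrimeSpectrum (B ⊗[R] A) from w).asIdeal
      rw [hz i]; exact hwe
    · rw [πE_ofPt]
      have h1 := hx.2
      rw [← hw, Set.mem_preimage, πE_ofPt, Set.mem_singleton_iff] at h1
      refine PrimeSpectrum.ext ?_
      show Ideal.comap _ (Ideal.comap _ (show PrimeSpectrum (B ⊗[R] A) from w).asIdeal) = RingHom.ker X.φ
      have h2 : Ideal.comap (Algebra.TensorProduct.includeRight : A →ₐ[R] B ⊗[R] A).toRingHom
          (show PrimeSpectrum (B ⊗[R] A) from w).asIdeal = RingHom.ker ε' := by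
        rw [← maximalIdeal_eq]
        exact congrArg PrimeSpectrum.asIdeal h1
      rw [Ideal.comap_comap]
      have h3 : (Algebra.TensorProduct.map (AlgHom.id R B) (Groth.L05.Henselization.ι X)).toRingHom.comp
          (Algebra.TensorProduct.includeRight : X.R →ₐ[R] B ⊗[R] X.R).toRingHom =
          (Algebra.TensorProduct.includeRight : A →ₐ[R] B ⊗[R] A).toRingHom.comp
            (Groth.L05.Henselization.ι X).toRingHom := by
        refine RingHom.ext fun y => ?_
        show Algebra.TensorProduct.map (AlgHom.id R B) (Groth.L05.Henselization.ι X) ((1 : B) ⊗ₜ[R] y) =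
          (1 : B) ⊗ₜ[R] Groth.L05.Henselization.ι X y
        rw [Algebra.TensorProduct.map_tmul, map_one]
      rw [h3, ← Ideal.comap_comap, h2]
      ext y
      show ε R (SepK p) (Groth.L05.Henselization.ι X y) = 0 ↔ X.φ y = 0
      rw [ε_ι]

/-- Disjoint clopen parts over a point give as many components of a fibre over it. -/
theorem le_card_fibre {Z : Sp S} (π : Z ⟶ (yon S).obj (Over.mk φ)) (E : Type u) [CommRing E] [Algebra R E] {m : ℕ}
    (O : Fin m → Set (Points (ZE π E))) (hO : ∀ i, IsClopen (O i)) (hd : ∀ i j, i ≠ j → Disjoint (O i) (O j))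
    (t : ↥(specO φ E).left) (ht : ∀ i, (show PrimeSpectrum E from t) ∈ πE π E '' O i)
    (k : FieldPt ((yon S).obj (specO φ E))) (hk : Points.mk k = Points.ofScheme (specO φ E) t) :
    (m : ℕ∞) ≤ ENat.card (_root_.ConnectedComponents
      (Points (pullback (pullback.snd π ((yon S).map (strO φ E))) k.toHom))) := by
  have sq := IsPullback.of_hasPullback (pullback.snd π ((yon S).map (strO φ E))) k.toHom
  refine le_card_components (fun i => Points.map (pullback.fst (pullback.snd π ((yon S).map (strO φ E))) k.toHom) ⁻¹' O i)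
    (fun i => (hO i).preimage (Points.continuous_map _)) (fun i => ?_) fun i j hij => (hd i j hij).preimage _
  obtain ⟨x, hxO, hxt⟩ := ht i
  obtain ⟨z, hz, -⟩ := exists_of_isPullback sq x (Points.ofScheme k.pt (IsLocalRing.closedPoint k.K)) (by
    rw [← Points.ofPt_eq_map_ofScheme, ← mk_eq_ofPt, hk]
    exact ((Points.schemeHomeo (specO φ E)).apply_symm_apply _).symm.trans
      (congrArg (Points.schemeHomeo (specO φ E)) hxt))
  refine ⟨z, ?_⟩
  show Points.map _ z ∈ O i
  rw [hz]
  exact hxO

set_option maxHeartbeats 800000 in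
/-- Points whose geometric fibres have more than `d` components form an open set. -/
theorem isOpen_card_gt {X Y : AlgSp.Space S} (f : X ⟶ Y) (hf1 : IsProperMor f.hom) (hf2 : LocP @Flat f.hom)
    (hf3 : IsFinitePresentationMor f.hom) (d : ℕ∞) :
    IsOpen {y : AlgSp.Points Y.obj | ∀ (k : AlgSp.FieldPt Y.obj), AlgSp.Points.mk k = y → k.IsGeometric →
        ∀ (Xk : AlgSp.Sp S) (a : Xk ⟶ X.obj) (b : Xk ⟶ (AlgSp.yon S).obj k.pt), IsPullback a b f.hom k.toHom →
          d < ENat.card (_root_.ConnectedComponents (AlgSp.Points Xk))} := by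
  rw [isOpen_iff_forall_mem_open]
  intro y hy
  obtain ⟨W, w, hWa, hw, u, hu⟩ := exists_affine_etale_nhd Y.property y
  haveI := hWa
  let R : Type u := Γ(W.left, ⊤)
  let φ : Spec (CommRingCat.of R) ⟶ S := W.left.isoSpec.inv ≫ W.hom
  let e : Over.mk φ ≅ W := Over.isoMk W.left.isoSpec.symm rfl
  let a₀ := (yon S).map e.hom ≫ w
  have ha₀ : RepWith @Etale a₀ := repWith_comp (repWith_of_isIso _) hw
  let u₀ : PrimeSpectrum R := W.left.isoSpec.hom u
  have hu₀ : Points.ofPt a₀ (show ↥(Over.mk φ).left from u₀) = y := by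
    rw [← hu, ofPt_comp]
    exact congrArg _ (congrArg (fun h : W.left ⟶ W.left => h u) W.left.isoSpec.hom_inv_id)
  let p := u₀.asIdeal
  have hVsp := IsAlgSpace.yon_obj (Over.mk φ)
  have sqZ := IsPullback.of_hasPullback f.hom a₀
  let π := pullback.snd f.hom a₀
  have hZ : IsAlgSpace (pullback f.hom a₀) := isAlgSpace_of_isPullback Y.property.diag X.property hVsp sqZ
  have hπ : IsProperMor π := isProperMor_of_isPullback X.property Y.property hVsp sqZ hf1
  have hπo : ∀ (E : Type u) [CommRing E] [Algebra R E], IsOpenMap (πE π E) := fun E _ _ => by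
    have sqE := IsPullback.of_hasPullback π ((yon S).map (strO φ E))
    have hE := IsAlgSpace.yon_obj (specO φ E)
    have h := isUnivOpenMor_of_flat_lfp (isAlgSpace_ZE π hZ E) hE
      (locP_of_isPullback etLocal_flat hZ hVsp hE sqE (locP_of_isPullback etLocal_flat X.property Y.property hVsp sqZ hf2))
      (locP_of_isPullback etLocal_lfp hZ hVsp hE sqE
        (locP_of_isPullback etLocal_lfp X.property Y.property hVsp sqZ hf3.1))
    exact (Points.schemeHomeo (specO φ E)).symm.isOpenMap.comp
      (h hE (𝟙 _) (𝟙 _) (pullback.snd π ((yon S).map (strO φ E))) IsPullback.of_id_fst)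
  have hfib : ∀ (E : Type u) [CommRing E] [Algebra R E],
      IsPullback (pullback.fst π ((yon S).map (strO φ E)) ≫ pullback.fst f.hom a₀)
        (pullback.snd π ((yon S).map (strO φ E))) f.hom ((yon S).map (strO φ E) ≫ a₀) := fun E _ _ =>
    (IsPullback.of_hasPullback π _).paste_horiz sqZ
  have hZqc : IsQuasiCompactSp (pullback f.hom a₀) := by
    haveI : CompactSpace (Over.mk φ).left := inferInstanceAs (CompactSpace (Spec (CommRingCat.of R)))
    exact hπ.2.1.2 hVsp isQuasiCompactSp_of_compactSpace (𝟙 _) (𝟙 _) π IsPullback.of_id_fst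
  -- the count at the given point
  have hKp : ∀ (K : Type u) [Field K] [Algebra R K], RingHom.ker (algebraMap R K) = p → ∀ t : ↥(specO φ K).left,
      Points.ofPt ((yon S).map (strO φ K) ≫ a₀) t = y := fun K _ _ hK t => by
    rw [ofPt_comp, ← hu₀]
    refine congrArg _ (PrimeSpectrum.ext ?_)
    show Ideal.comap (algebraMap R K) (show PrimeSpectrum K from t).asIdeal = p
    rw [(Ideal.eq_bot_or_top _).resolve_right (show PrimeSpectrum K from t).2.ne_top]
    exact hK
  have hker : RingHom.ker (algebraMap R (SepK p)) = p := by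
    ext r
    rw [RingHom.mem_ker, IsScalarTower.algebraMap_apply R p.ResidueField (SepK p), map_eq_zero,
      Ideal.algebraMap_residueField_eq_zero]
  obtain ⟨k, hk, hkc⟩ := exists_geometric ((yon S).map (strO φ (SepK p)) ≫ a₀)
  haveI : IsAlgClosed k.K := hk
  have hlt : d < ENat.card (_root_.ConnectedComponents (Points (ZE π (SepK p)))) := by
    have h1 := hy k (by rw [hkc]; exact hKp _ hker _) hk _ _ _ (IsPullback.of_hasPullback f.hom k.toHom)
    rwa [card_eq_of_class f k.toHom ((yon S).map (strO φ (SepK p)) ≫ a₀) (by rw [← mk_eq_ofPt, hkc])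
      (IsPullback.of_hasPullback f.hom k.toHom) (hfib (SepK p))] at h1
  obtain ⟨n, rfl⟩ : ∃ n : ℕ, d = n := ⟨d.toNat, (ENat.natCast_toNat hlt.ne_top).symm⟩
  have hm : ((n + 1 : ℕ) : ℕ∞) ≤ ENat.card (_root_.ConnectedComponents (Points (ZE π (SepK p)))) := by
    push_cast
    first | done | exact Order.add_one_le_of_lt hlt
  obtain ⟨X', O, hO, hOd, hOx⟩ := exists_stage_clopens hZ π hπ hZqc p hm
  let U' : Set (PrimeSpectrum X'.R) := ⋂ i, πE π X'.R '' O i
  have hU' : IsOpen U' := isOpen_iInter_of_finite fun i => hπo X'.R _ (hO i).isOpen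
  let aE := (yon S).map (strO φ X'.R) ≫ a₀
  have haE : RepWith @Etale aE := repWith_comp (repWith_map (g := strO φ X'.R) (by
    show Etale (Spec.map (CommRingCat.ofHom (algebraMap R X'.R)))
    rw [HasRingHomProperty.Spec_iff (P := @Etale)]
    exact RingHom.etale_algebraMap.2 inferInstance)) ha₀
  refine ⟨Points.ofPt aE '' (show Set ↥(specO φ X'.R).left from U'), ?_, isOpenMap_ofPt haE _ hU', ?_⟩
  · rintro _ ⟨t, ht, rfl⟩ k' hk' hgeo Xk a b h
    have hk'K : IsAlgClosed k'.K := hgeo
    obtain ⟨k'', hk'', hk''c⟩ := exists_geometric ((yon S).map (Over.homMk ((specO φ X'.R).left.fromSpecResidueField t) rfl :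
      Over.mk ((specO φ X'.R).left.fromSpecResidueField t ≫ (specO φ X'.R).hom) ⟶ specO φ X'.R))
    haveI : IsAlgClosed k''.K := hk''
    have hcls : Points.mk k'' = Points.ofScheme (specO φ X'.R) t := by
      rw [hk''c, ofPt_map]
      exact congrArg _ (Scheme.fromSpecResidueField_apply _ _)
    have sqF := IsPullback.of_hasPullback (pullback.snd π ((yon S).map (strO φ X'.R))) k''.toHom
    have sqX := sqF.paste_horiz (hfib X'.R)
    have hclass : Points.mk k' = Points.map aE (Points.mk k'') := by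
      rw [hk', hcls, ← Points.ofPt_eq_map_ofScheme]
    have key := card_eq_of_geometric f k' hgeo aE k'' hk'' hclass h sqX
    have hge := le_card_fibre π X'.R O hO hOd t (fun i => Set.mem_iInter.1 ht i) k'' hcls
    have hn : ((n : ℕ∞)) < ((n + 1 : ℕ) : ℕ∞) := by exact_mod_cast Nat.lt_succ_self n
    rw [key]
    exact lt_of_lt_of_le hn hge
  · refine ⟨(⟨RingHom.ker X'.φ, RingHom.ker_isPrime _⟩ : PrimeSpectrum X'.R), Set.mem_iInter.2 fun i => ?_, ?_⟩
    · obtain ⟨x, hx, hxt⟩ := hOx i
      exact ⟨x, hx, hxt⟩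
    · rw [ofPt_comp, ← hu₀]
      exact congrArg _ (PrimeSpectrum.ext (comap_point p X').symm)

end Groth.L23.GeomConnLsc
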