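import Groth.Agent.L23.GeomConnLsc.Pieces
import Groth.Agent.L23.GeomConnLsc.Main
import Groth.Agent.L23.GeomConnLsc.FpColim
import Groth.Agent.L07.Count.Constr
import Mathlib.RingTheory.Spectrum.Prime.Chevalley

/-!
# Constructible neighbourhoods on which the number of geometric components does not grow
-/

universe u

open CategoryTheory CategoryTheory.Limits AlgebraicGeometry AlgSp TopologicalSpace TensorProduct Topology

set_option autoImplicit false
set_option linter.style.haveILetI false
set_option linter.unusedSectionVars false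
set_option backward.isDefEq.respectTransparency false
set_option backward.isDefEq.respectTransparency.types false

noncomputable section

namespace Groth.L23.GeomConnLsc

variable {S : Scheme.{u}} {R : Type u} [CommRing R] {φ : Spec (CommRingCat.of R) ⟶ S}

/-- Base change of spectra along a map of algebras. -/
theorem isPullback_stage (B : Type u) [CommRing B] [Algebra R B] {E E' : Type u} [CommRing E] [Algebra R E]
    [CommRing E'] [Algebra R E'] (f : E →ₐ[R] E') :
    IsPullback (specMap (φ := φ) (Algebra.TensorProduct.map (AlgHom.id R B) f))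
      (specMap (Algebra.TensorProduct.includeRight : E' →ₐ[R] B ⊗[R] E'))
      (specMap (Algebra.TensorProduct.includeRight : E →ₐ[R] B ⊗[R] E)) (specMap f) := by
  have hL : (Algebra.TensorProduct.map (AlgHom.id R B) f).comp
      (Algebra.TensorProduct.includeLeft : B →ₐ[R] B ⊗[R] E) = Algebra.TensorProduct.includeLeft := by
    ext x; simp
  have hR : (Algebra.TensorProduct.map (AlgHom.id R B) f).comp
      (Algebra.TensorProduct.includeRight : E →ₐ[R] B ⊗[R] E) =
        (Algebra.TensorProduct.includeRight : E' →ₐ[R] B ⊗[R] E').comp f := by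
    ext x; simp
  refine IsPullback.of_right ?_ ?_ (isPullback_specO φ B E)
  · rw [specMap_comp, hL, specMap_str]
    exact isPullback_specO φ B E'
  · rw [specMap_comp, specMap_comp, hR]

theorem lfp_incR (B : Type u) [CommRing B] [Algebra R B] [Algebra.FinitePresentation R B] (E : Type u) [CommRing E]
    [Algebra R E] :
    LocallyOfFinitePresentation
      (specMap (φ := φ) (Algebra.TensorProduct.includeRight : E →ₐ[R] B ⊗[R] E)).left := by
  refine MorphismProperty.of_isPullback (P := @LocallyOfFinitePresentation)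
    ((isPullback_specO φ B E).map (Over.forget S)) ?_
  show LocallyOfFinitePresentation (Spec.map (CommRingCat.ofHom (algebraMap R B)))
  rw [HasRingHomProperty.Spec_iff (P := @LocallyOfFinitePresentation)]
  exact RingHom.finitePresentation_algebraMap.2 inferInstance

theorem fp_incR (B : Type u) [CommRing B] [Algebra R B] [Algebra.FinitePresentation R B] (E : Type u) [CommRing E]
    [Algebra R E] :
    (Algebra.TensorProduct.includeRight : E →ₐ[R] B ⊗[R] E).toRingHom.FinitePresentation := by
  have h := lfp_incR (R := R) (φ := (𝟙 (Spec (CommRingCat.of R)))) B E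
  exact (HasRingHomProperty.Spec_iff (P := @LocallyOfFinitePresentation)
    (φ := CommRingCat.ofHom (Algebra.TensorProduct.includeRight : E →ₐ[R] B ⊗[R] E).toRingHom)).1 h

theorem noetherianSpace_tensor_field (B : Type u) [CommRing B] [Algebra R B] [Algebra.FiniteType R B] (K : Type u)
    [Field K] [Algebra R K] : NoetherianSpace (PrimeSpectrum (B ⊗[R] K)) := by
  haveI : IsNoetherianRing (K ⊗[R] B) := Algebra.FiniteType.isNoetherianRing K _
  haveI : IsNoetherianRing (B ⊗[R] K) :=
    isNoetherianRing_of_ringEquiv (K ⊗[R] B) (Algebra.TensorProduct.comm R K B).toRingEquiv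
  infer_instance

/-- The connected pieces of a fibre stay connected over a constructible neighbourhood in a stage. -/
theorem exists_connected_stage (B C : Type u) [CommRing B] [CommRing C] [Algebra R B] [Algebra R C]
    [Algebra.FinitePresentation R B] [Algebra.FinitePresentation R C] (j₁ j₂ : B →ₐ[R] C) (p : Ideal R) [p.IsPrime]
    (K : Type u) [Field K] [IsSepClosed K] [Algebra R K] (hK : RingHom.ker (algebraMap R K) = p) :
    ∃ (m : ℕ) (e : Fin m → B ⊗[R] K) (E : Type u) (_ : CommRing E) (_ : Algebra R E)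
      (_ : Algebra.FinitePresentation R E) (z : Fin m → B ⊗[R] E) (G : Set (PrimeSpectrum E)) (τ : PrimeSpectrum E),
      (∀ i, IsIdempotentElem (e i)) ∧ (∏ i, (1 - e i)) = 0 ∧ (∀ i, (PrimeSpectrum.basicOpen (e i) : Set (PrimeSpectrum (B ⊗[R] K))).Nonempty) ∧
      IsConstructible G ∧ τ ∈ G ∧ PrimeSpectrum.comap (algebraMap R E) τ = ⟨p, inferInstance⟩ ∧
      ∀ (K' : Type u) [Field K'] [IsSepClosed K'] [Algebra R K'] (ψ : E →ₐ[R] K'),
        (⟨RingHom.ker ψ, RingHom.ker_isPrime _⟩ : PrimeSpectrum E) ∈ G →
        (∏ i, (1 - Algebra.TensorProduct.map (AlgHom.id R B) ψ (z i))) = 0 ∧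
        (∀ i, _root_.IsConnected (PrimeSpectrum.basicOpen (Algebra.TensorProduct.map (AlgHom.id R B) ψ (z i)) :
          Set (PrimeSpectrum (B ⊗[R] K')))) ∧
        ∀ a b, (∃ r : PrimeSpectrum (C ⊗[R] K), Algebra.TensorProduct.map j₁ (AlgHom.id R K) (e a) ∉ r.asIdeal ∧
            Algebra.TensorProduct.map j₂ (AlgHom.id R K) (e b) ∉ r.asIdeal) →
          ∃ r : PrimeSpectrum (C ⊗[R] K'),
            Algebra.TensorProduct.map j₁ (AlgHom.id R K') (Algebra.TensorProduct.map (AlgHom.id R B) ψ (z a)) ∉ r.asIdeal ∧
            Algebra.TensorProduct.map j₂ (AlgHom.id R K') (Algebra.TensorProduct.map (AlgHom.id R B) ψ (z b)) ∉ r.asIdeal := by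
  classical
  haveI := noetherianSpace_tensor_field (R := R) B K
  obtain ⟨m, e, he, -, hcov, hconn⟩ := exists_connected_idempotents (B ⊗[R] K)
  have hc := isColim_fp R K
  obtain ⟨k₀, hk₀⟩ := Groth.L03.ColimTensor.exists_lift hc B e
  choose z₀ hz₀ using hk₀
  have hz₀' : ∀ i, Algebra.TensorProduct.map (AlgHom.id R B) k₀.φ (z₀ i) = e i := hz₀
  obtain ⟨k, f, hf, hkill⟩ := Groth.L03.ColimTensor.exists_kill hc B k₀
    (fun o : Option (Fin m) => o.elim (∏ i, (1 - z₀ i)) fun i => z₀ i * z₀ i - z₀ i) fun o => by
      show Algebra.TensorProduct.map (AlgHom.id R B) k₀.φ _ = 0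
      cases o with
      | none => simp only [Option.elim, map_prod, map_sub, map_one, hz₀', hcov]
      | some i => simp only [Option.elim, map_sub, map_mul, hz₀', (he i).eq, sub_self]
  let E := k.R'
  haveI := finitePresentation_fpObj R K k
  let z : Fin m → B ⊗[R] E := fun i => Algebra.TensorProduct.map (AlgHom.id R B) f (z₀ i)
  have hz : ∀ i, Algebra.TensorProduct.map (AlgHom.id R B) k.φ (z i) = e i := fun i => by
    rw [← AlgHom.comp_apply, ← Algebra.TensorProduct.map_id_comp, hf, hz₀']
  have hzc : (∏ i, (1 - z i)) = 0 := by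
    have h : Algebra.TensorProduct.map (AlgHom.id R B) f (∏ i, (1 - z₀ i)) = 0 := hkill none
    simpa [z, map_prod, map_sub] using h
  let τ : PrimeSpectrum E := ⟨RingHom.ker k.φ, RingHom.ker_isPrime _⟩
  -- connectedness of the pieces
  let σ : Spec (CommRingCat.of R) ⟶ Spec (CommRingCat.of R) := 𝟙 _
  let F : Spec (CommRingCat.of (B ⊗[R] E)) ⟶ Spec (CommRingCat.of E) :=
    (specMap (φ := σ) (Algebra.TensorProduct.includeRight : E →ₐ[R] B ⊗[R] E)).left
  haveI : LocallyOfFinitePresentation F := lfp_incR (φ := σ) B E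
  let j : ∀ i, Spec (CommRingCat.of (Localization.Away (z i))) ⟶ Spec (CommRingCat.of (B ⊗[R] E)) := fun i =>
    Spec.map (CommRingCat.ofHom (algebraMap (B ⊗[R] E) (Localization.Away (z i))))
  have hj : ∀ i, IsOpenImmersion (j i) := fun i => IsOpenImmersion.of_isLocalization (z i)
  have hjr : ∀ i, Set.range (j i) = (PrimeSpectrum.basicOpen (z i) : Set (PrimeSpectrum (B ⊗[R] E))) := fun i =>
    PrimeSpectrum.localization_away_comap_range (Localization.Away (z i)) (z i)
  let G₁ : Fin m → Set (PrimeSpectrum E) := fun i => {t | MoreMor.nGeomConnComp (j i ≫ F) t = 1}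
  have hG₁c : ∀ i, IsConstructible (G₁ i) := fun i => by
    haveI := hj i
    exact IsLocallyConstructible.isConstructible
      (Groth.L07.Count.isLocallyConstructible_nPair (j i ≫ F) {q | q.1 = 1})
  -- pullback of a piece along a separably closed point
  have hpiece : ∀ (K' : Type u) [Field K'] [IsSepClosed K'] [Algebra R K'] (ψ : E →ₐ[R] K') (i : Fin m),
      MoreMor.nGeomConnComp (j i ≫ F) (⟨RingHom.ker ψ, RingHom.ker_isPrime _⟩ : PrimeSpectrum E) = 1 ↔
        _root_.IsConnected (PrimeSpectrum.basicOpen (Algebra.TensorProduct.map (AlgHom.id R B) ψ (z i)) :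
          Set (PrimeSpectrum (B ⊗[R] K'))) := fun K' _ _ _ ψ i => by
    haveI := hj i
    let gK : Spec (CommRingCat.of K') ⟶ Spec (CommRingCat.of E) := (specMap (φ := σ) ψ).left
    have hpt : ∀ c, gK c = (⟨RingHom.ker ψ, RingHom.ker_isPrime _⟩ : PrimeSpectrum E) := fun c => by
      refine PrimeSpectrum.ext ?_
      show Ideal.comap ψ.toRingHom (show PrimeSpectrum K' from c).asIdeal = _
      rw [(Ideal.eq_bot_or_top _).resolve_right (show PrimeSpectrum K' from c).2.ne_top]
      rfl
    rw [Groth.L07.Count.nGeomConnComp_eq (j i ≫ F) K' gK _ hpt]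
    let Φ : Spec (CommRingCat.of (B ⊗[R] K')) ⟶ Spec (CommRingCat.of (B ⊗[R] E)) :=
      (specMap (φ := σ) (Algebra.TensorProduct.map (AlgHom.id R B) ψ)).left
    have sq : IsPullback Φ _ F gK := (isPullback_stage (φ := σ) B ψ).map (Over.forget _)
    have sq' := (IsPullback.of_hasPullback (j i) Φ).paste_vert sq
    rw [Groth.L07.Count.nConn_congr sq'.isoPullback.symm]
    have hr : Set.range (pullback.snd (j i) Φ) =
        (PrimeSpectrum.basicOpen (Algebra.TensorProduct.map (AlgHom.id R B) ψ (z i)) : Set (PrimeSpectrum (B ⊗[R] K'))) := by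
      rw [Scheme.Pullback.range_snd, hjr]
      rfl
    haveI : IsOpenImmersion (pullback.snd (j i) Φ) := inferInstance
    have hemb : IsEmbedding (pullback.snd (j i) Φ) := (pullback.snd (j i) Φ).isOpenEmbedding.isEmbedding
    rw [← hr, ← Set.image_univ]
    constructor
    · intro h1
      haveI : ConnectedSpace ↥(pullback (j i) Φ) := by
        haveI : Nonempty ↥(pullback (j i) Φ) := by
          by_contra hne
          haveI := not_nonempty_iff.1 hne
          haveI : IsEmpty (ConnectedComponents ↥(pullback (j i) Φ)) :=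
            ⟨fun c => by obtain ⟨x, -⟩ := ConnectedComponents.surjective_coe c; exact isEmptyElim x⟩
          rw [Groth.L07.Count.nConn, ENat.card_eq_zero_iff_empty _ |>.2 inferInstance] at h1
          exact zero_ne_one h1
        haveI : Subsingleton (ConnectedComponents ↥(pullback (j i) Φ)) :=
          ENat.card_le_one_iff_subsingleton _ |>.1 (le_of_eq h1)
        refine { toPreconnectedSpace := preconnectedSpace_iff_connectedComponent.2 fun x => ?_, toNonempty := ‹_› }
        exact Set.eq_univ_of_forall fun y => ConnectedComponents.coe_eq_coe'.1 (Subsingleton.elim _ _)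
      exact isConnected_univ.image _ (pullback.snd (j i) Φ).continuous.continuousOn
    · intro h1
      haveI hne : Nonempty ↥(pullback (j i) Φ) := h1.nonempty.of_image.nonempty
      haveI : ConnectedSpace ↥(pullback (j i) Φ) := connectedSpace_iff_univ.2
        ⟨h1.nonempty.of_image, hemb.isInducing.isPreconnected_image.1 h1.2⟩
      haveI : Subsingleton (ConnectedComponents ↥(pullback (j i) Φ)) := inferInstance
      haveI : Nonempty (ConnectedComponents ↥(pullback (j i) Φ)) :=
        hne.map ConnectedComponents.mk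
      exact le_antisymm (ENat.card_le_one_iff_subsingleton _ |>.2 inferInstance) ((ENat.one_le_card_iff_nonempty _).2 inferInstance)
  -- links
  let w : Fin m × Fin m → C ⊗[R] E := fun ab =>
    Algebra.TensorProduct.map j₁ (AlgHom.id R E) (z ab.1) * Algebra.TensorProduct.map j₂ (AlgHom.id R E) (z ab.2)
  let Lk : Set (Fin m × Fin m) := {ab | ∃ r : PrimeSpectrum (C ⊗[R] K),
    Algebra.TensorProduct.map j₁ (AlgHom.id R K) (e ab.1) ∉ r.asIdeal ∧
      Algebra.TensorProduct.map j₂ (AlgHom.id R K) (e ab.2) ∉ r.asIdeal}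
  let G₂ : Fin m × Fin m → Set (PrimeSpectrum E) := fun ab =>
    PrimeSpectrum.comap (Algebra.TensorProduct.includeRight : E →ₐ[R] C ⊗[R] E).toRingHom ''
      (PrimeSpectrum.basicOpen (w ab) : Set (PrimeSpectrum (C ⊗[R] E)))
  have hG₂c : ∀ ab, IsConstructible (G₂ ab) := fun ab =>
    PrimeSpectrum.isConstructible_comap_image (fp_incR C E) PrimeSpectrum.isConstructible_basicOpen
  have nat : ∀ {T : Type u} [CommRing T] [Algebra R T] (g : E →ₐ[R] T) (jj : B →ₐ[R] C) (x : B ⊗[R] E),
      Algebra.TensorProduct.map (AlgHom.id R C) g (Algebra.TensorProduct.map jj (AlgHom.id R E) x) =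
        Algebra.TensorProduct.map jj (AlgHom.id R T) (Algebra.TensorProduct.map (AlgHom.id R B) g x) := by
    intro T _ _ g jj x
    induction x using TensorProduct.induction_on with
    | zero => simp
    | tmul b t => simp
    | add x y hx hy => simp only [map_add, hx, hy]
  refine ⟨m, e, E, inferInstance, inferInstance, inferInstance, z,
    (⋂ i, G₁ i) ∩ ⋂ ab ∈ Lk, G₂ ab, τ, he, hcov, fun i => (hconn i).nonempty, ?_, ⟨?_, ?_⟩, ?_, ?_⟩
  · refine IsConstructible.inter ?_ (IsConstructible.biInter (Set.toFinite _) fun ab _ => hG₂c ab)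
    have := IsConstructible.biInter (t := (Set.univ : Set (Fin m))) (Set.toFinite _) fun i _ => hG₁c i
    simpa using this
  · exact Set.mem_iInter.2 fun i => (hpiece K k.φ i).2 (by rw [hz]; exact hconn i)
  · refine Set.mem_iInter₂.2 fun ab hab => ?_
    obtain ⟨r, hr₁, hr₂⟩ := hab
    refine ⟨PrimeSpectrum.comap (Algebra.TensorProduct.map (AlgHom.id R C) k.φ).toRingHom r, ?_, ?_⟩
    · show Algebra.TensorProduct.map (AlgHom.id R C) k.φ (w ab) ∉ r.asIdeal
      rw [map_mul, nat, nat, hz, hz]
      exact fun h => (r.2.mem_or_mem h).elim hr₁ hr₂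
    · refine PrimeSpectrum.ext (Ideal.ext fun x => ?_)
      show Algebra.TensorProduct.map (AlgHom.id R C) k.φ ((1 : C) ⊗ₜ[R] x) ∈ r.asIdeal ↔ k.φ x = 0
      rw [Algebra.TensorProduct.map_tmul, map_one]
      constructor
      · intro h
        by_contra h0
        have hu : IsUnit ((1 : C) ⊗ₜ[R] k.φ x) :=
          (isUnit_iff_ne_zero.2 h0).map (Algebra.TensorProduct.includeRight : K →ₐ[R] C ⊗[R] K)
        exact r.2.ne_top (Ideal.eq_top_of_isUnit_mem _ h hu)
      · intro h
        rw [h, TensorProduct.tmul_zero]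
        exact zero_mem _
  · refine PrimeSpectrum.ext (Ideal.ext fun x => ?_)
    show k.φ (algebraMap R E x) = 0 ↔ x ∈ p
    rw [AlgHom.commutes, ← hK, RingHom.mem_ker]
  · intro K' _ _ _ ψ hψ
    refine ⟨?_, fun i => (hpiece K' ψ i).1 (Set.mem_iInter.1 hψ.1 i), fun a b hab => ?_⟩
    · have := congrArg (Algebra.TensorProduct.map (AlgHom.id R B) ψ) hzc
      simpa [map_prod, map_sub] using this
    · obtain ⟨s, hs, hst⟩ := Set.mem_iInter₂.1 hψ.2 (a, b) hab
      have sq := (isPullback_stage (φ := σ) C ψ).map (Over.forget _)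
      obtain ⟨c⟩ : Nonempty (PrimeSpectrum K') := inferInstance
      have hc' : PrimeSpectrum.comap ψ.toRingHom c = PrimeSpectrum.comap
          (Algebra.TensorProduct.includeRight : E →ₐ[R] C ⊗[R] E).toRingHom s := by
        rw [hst]
        refine PrimeSpectrum.ext ?_
        show Ideal.comap ψ.toRingHom c.asIdeal = _
        rw [(Ideal.eq_bot_or_top _).resolve_right c.2.ne_top]
        rfl
      obtain ⟨v, hv, -⟩ := Scheme.Pullback.exists_preimage_pullback
        (f := Spec.map (CommRingCat.ofHom (R := E) (S := C ⊗[R] E) (Algebra.TensorProduct.includeRight : E →ₐ[R] C ⊗[R] E).toRingHom))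
        (g := Spec.map (CommRingCat.ofHom (R := E) (S := K') ψ.toRingHom)) s c hc'.symm
      let r : PrimeSpectrum (C ⊗[R] K') := sq.isoPullback.inv v
      have hrs : PrimeSpectrum.comap (Algebra.TensorProduct.map (AlgHom.id R C) ψ).toRingHom r = s := by
        rw [← hv]
        exact congrArg (fun g => g v) sq.isoPullback_inv_fst
      refine ⟨r, ?_, ?_⟩
      · intro h
        apply hs
        rw [← hrs]
        show Algebra.TensorProduct.map (AlgHom.id R C) ψ (w (a, b)) ∈ r.asIdeal
        rw [map_mul, nat, nat]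
        exact Ideal.mul_mem_right _ _ h
      · intro h
        apply hs
        rw [← hrs]
        show Algebra.TensorProduct.map (AlgHom.id R C) ψ (w (a, b)) ∈ r.asIdeal
        rw [map_mul, nat, nat]
        exact Ideal.mul_mem_left _ _ h

end Groth.L23.GeomConnLsc
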