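import Groth.Agent.L23.GeomConnLsc.Usc
import Groth.Agent.L23.NormNagata

/-!
# With geometrically reduced fibres the number of geometric components is locally constant
-/

universe u

open CategoryTheory CategoryTheory.Limits AlgebraicGeometry AlgSp TopologicalSpace TensorProduct

set_option autoImplicit false
set_option linter.style.haveILetI false
set_option linter.unusedSectionVars false
set_option backward.isDefEq.respectTransparency false
set_option backward.isDefEq.respectTransparency.types false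

noncomputable section

namespace Groth.L23.GeomConnLsc

variable {S : Scheme.{u}}

/-- The fibres of `X ⟶ Y` are geometrically reduced. -/
def GeomRed {X Y : AlgSp.Space S} (f : X ⟶ Y) : Prop :=
  ∀ y : AlgSp.Points Y.obj, ∀ (k : AlgSp.FieldPt Y.obj), AlgSp.Points.mk k = y →
    ∀ (k' : Type u) [Field k'] (φ : k.K →+* k') (Xk' : AlgSp.Sp S) (a : Xk' ⟶ X.obj)
      (b : Xk' ⟶ (AlgSp.yon S).obj (Over.mk (Spec.map (CommRingCat.ofHom φ) ≫ k.str))),
      IsPullback a b f.hom ((AlgSp.yon S).map (Over.homMk (Spec.map (CommRingCat.ofHom φ)) rfl :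
        Over.mk (Spec.map (CommRingCat.ofHom φ) ≫ k.str) ⟶ k.pt) ≫ k.toHom) →
      AlgSp.EtaleLocally (fun U => IsReduced U) Xk'

variable {R : Type u} [CommRing R] {φ : Spec (CommRingCat.of R) ⟶ S} {X Y : AlgSp.Space S} (f : X ⟶ Y)
  (a₀ : (yon S).obj (Over.mk φ) ⟶ Y.obj)

theorem isPullback_ZE (E : Type u) [CommRing E] [Algebra R E] :
    IsPullback (pullback.fst (pullback.snd f.hom a₀) ((yon S).map (strO φ E)) ≫ pullback.fst f.hom a₀)
      (pullback.snd (pullback.snd f.hom a₀) ((yon S).map (strO φ E))) f.hom ((yon S).map (strO φ E) ≫ a₀) :=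
  (IsPullback.of_hasPullback (pullback.snd f.hom a₀) _).paste_horiz (IsPullback.of_hasPullback f.hom a₀)

theorem card_fibre_eq (t : PrimeSpectrum R) (k : FieldPt Y.obj)
    (hk : Points.mk k = Points.ofPt a₀ (show ↥(Over.mk φ).left from t)) (hgeo : k.IsGeometric) {Xk : Sp S} {a : Xk ⟶ X.obj}
    {b : Xk ⟶ (yon S).obj k.pt} (h : IsPullback a b f.hom k.toHom) :
    ENat.card (_root_.ConnectedComponents (Points Xk)) = nFib (pullback.snd f.hom a₀) t := by
  haveI : IsAlgClosed k.K := hgeo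
  refine card_eq_of_class f k.toHom ((yon S).map (strO φ (AlgebraicClosure t.asIdeal.ResidueField)) ≫ a₀) ?_ h
    (isPullback_ZE f a₀ _)
  rw [← mk_eq_ofPt, hk, ← Points.map_ofPt, ofPt_strO _ _ t (ker_algebraicClosure t.asIdeal),
    ← Points.ofPt_eq_map_ofScheme]

theorem isReduced_tensor (hred : GeomRed f) {B : Type u} [CommRing B] [Algebra R B]
    {pW : (yon S).obj (specO φ B) ⟶ pullback f.hom a₀} (hpW : pW ≫ pullback.snd f.hom a₀ = (yon S).map (strO φ B))
    (hp : RepWith @Etale pW) (K : Type u) [Field K] [Algebra R K] : _root_.IsReduced (B ⊗[R] K) := by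
  let x : (yon S).obj (specO φ K) ⟶ Y.obj := (yon S).map (strO φ K) ≫ a₀
  let k : FieldPt Y.obj := ⟨K, Spec.map (CommRingCat.ofHom (algebraMap R K)) ≫ φ, (J S).uliftYonedaEquiv x⟩
  have hk : k.toHom = x := Equiv.symm_apply_apply _ _
  have hid : Spec.map (CommRingCat.ofHom (RingHom.id K)) = 𝟙 (Spec (CommRingCat.of K)) := Spec.map_id _
  let m : Over.mk (Spec.map (CommRingCat.ofHom (RingHom.id K)) ≫ k.str) ⟶ k.pt :=
    Over.homMk (Spec.map (CommRingCat.ofHom (RingHom.id K))) rfl
  haveI : IsIso m := by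
    haveI : IsIso ((Over.forget S).map m) := by
      show IsIso (Spec.map (CommRingCat.ofHom (RingHom.id K)))
      rw [hid]
      infer_instance
    exact isIso_of_reflects_iso m (Over.forget S)
  let n : specO φ K ⟶ Over.mk (Spec.map (CommRingCat.ofHom (RingHom.id K)) ≫ k.str) :=
    (show specO φ K ⟶ k.pt from 𝟙 _) ≫ inv m
  let leg := (yon S).map m ≫ k.toHom
  have sq := (isPullback_ZE f a₀ K)
  have sq' : IsPullback (pullback.fst (pullback.snd f.hom a₀) ((yon S).map (strO φ K)) ≫ pullback.fst f.hom a₀)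
      (pullback.snd (pullback.snd f.hom a₀) ((yon S).map (strO φ K)) ≫ (yon S).map n) f.hom leg := by
    haveI : IsIso n := IsIso.comp_isIso' (inferInstanceAs (IsIso (𝟙 (specO φ K)))) inferInstance
    refine sq.of_iso (Iso.refl _) (Iso.refl _) (asIso ((yon S).map n)) (Iso.refl _) (by simp) (by simp) (by simp) ?_
    simp only [asIso_hom, Iso.refl_hom, Category.comp_id, leg, n]
    rw [hk, Functor.map_comp, Category.assoc, ← Functor.map_comp_assoc _ _ m, IsIso.inv_hom_id]
    erw [CategoryTheory.Functor.map_id, Category.id_comp, Category.id_comp]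
  have hloc := hred _ k rfl K (RingHom.id K) _ _ _ sq'
  have h := NormNagata.isReduced_chart hloc
    (repWith_of_isPullback (sqW (pullback.snd f.hom a₀) hpW K) hp)
  exact (affine_isReduced_iff (CommRingCat.of (B ⊗[R] K))).1 h

/-- With geometrically reduced fibres the count is locally constant. -/
theorem isOpen_card_eq (hf1 : IsProperMor f.hom) (hf2 : LocP @Flat f.hom) (hf3 : IsFinitePresentationMor f.hom)
    (hred : GeomRed f) (d : ℕ∞) :
    IsOpen {y : AlgSp.Points Y.obj | ∀ (k : AlgSp.FieldPt Y.obj), AlgSp.Points.mk k = y → k.IsGeometric →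
        ∀ (Xk : AlgSp.Sp S) (a : Xk ⟶ X.obj) (b : Xk ⟶ (AlgSp.yon S).obj k.pt), IsPullback a b f.hom k.toHom →
          ENat.card (_root_.ConnectedComponents (AlgSp.Points Xk)) = d} := by
  rw [isOpen_iff_forall_mem_open]
  intro y hy
  obtain ⟨W, w, hWa, hw, u, hu⟩ := exists_affine_etale_nhd Y.property y
  haveI := hWa
  let R : Type u := Γ(W.left, ⊤)
  let φ : Spec (CommRingCat.of R) ⟶ S := W.left.isoSpec.inv ≫ W.hom
  let e : Over.mk φ ≅ W := Over.isoMk W.left.isoSpec.symm rfl
  let a₀ := (yon S).map e.hom ≫ w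
  have ha₀ : RepWith @Etale a₀ := repWith_comp (repWith_of_isIso _) hw
  let u₀ : PrimeSpectrum R := W.left.isoSpec.hom u
  have hu₀ : Points.ofPt a₀ (show ↥(Over.mk φ).left from u₀) = y := by
    rw [← hu, ofPt_comp]
    exact congrArg _ (congrArg (fun h : W.left ⟶ W.left => h u) W.left.isoSpec.hom_inv_id)
  have hVsp := IsAlgSpace.yon_obj (Over.mk φ)
  have sqZ := IsPullback.of_hasPullback f.hom a₀
  let π := pullback.snd f.hom a₀
  have hZ : IsAlgSpace (pullback f.hom a₀) := isAlgSpace_of_isPullback Y.property.diag X.property hVsp sqZ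
  have hπ : IsProperMor π := isProperMor_of_isPullback X.property Y.property hVsp sqZ hf1
  have hZqc : IsQuasiCompactSp (pullback f.hom a₀) := by
    haveI : CompactSpace (Over.mk φ).left := inferInstanceAs (CompactSpace (Spec (CommRingCat.of R)))
    exact hπ.2.1.2 hVsp isQuasiCompactSp_of_compactSpace (𝟙 _) (𝟙 _) π IsPullback.of_id_fst
  obtain ⟨B, C, _, _, _, _, pW, hpW, j₁, j₂, hp, hps, hR, hBfp, hCfp, hBfl, hCfl⟩ :=
    exists_atlas_data hZ π hπ hZqc (locP_of_isPullback etLocal_flat X.property Y.property hVsp sqZ hf2)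
      (locP_of_isPullback etLocal_lfp X.property Y.property hVsp sqZ hf3.1)
  have hle := fun e : ℕ∞ =>
    isOpen_nFib_le π hpW hR hp hps (isReduced_tensor f a₀ hred hpW hp) hZ hπ e
  have hgt : ∀ e : ℕ∞, IsOpen {t : PrimeSpectrum R | e < nFib π t} := fun e => by
    have h := (isOpen_card_gt f hf1 hf2 hf3 e).preimage (Points.continuous_ofPt a₀)
    refine (congrArg IsOpen (Set.ext fun (t : PrimeSpectrum R) => ?_)).mpr h
    constructor
    · intro ht k hk hgeo Xk a b h'
      rwa [card_fibre_eq f a₀ t k hk hgeo h']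
    · intro ht
      obtain ⟨k, hk, hkc⟩ := exists_geometric ((yon S).map (strO φ (AlgebraicClosure t.asIdeal.ResidueField)) ≫ a₀)
      have hk' : Points.mk k = Points.ofPt a₀ (show ↥(Over.mk φ).left from t) := by
        rw [hkc, ← Points.map_ofPt, ofPt_strO _ _ t (ker_algebraicClosure t.asIdeal), ← Points.ofPt_eq_map_ofScheme]
      have h' := ht k hk' hk _ _ _ (IsPullback.of_hasPullback f.hom k.toHom)
      rwa [card_fibre_eq f a₀ t k hk' hk (IsPullback.of_hasPullback f.hom k.toHom)] at h'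
  obtain ⟨k₀, hk₀, hk₀c⟩ := exists_geometric ((yon S).map (strO φ (AlgebraicClosure u₀.asIdeal.ResidueField)) ≫ a₀)
  have hk₀' : Points.mk k₀ = Points.ofPt a₀ (show ↥(Over.mk φ).left from u₀) := by
    rw [hk₀c, ← Points.map_ofPt, ofPt_strO _ _ u₀ (ker_algebraicClosure u₀.asIdeal), ← Points.ofPt_eq_map_ofScheme]
  have hd : nFib π u₀ = d :=
    (card_fibre_eq f a₀ u₀ k₀ hk₀' hk₀ (IsPullback.of_hasPullback f.hom k₀.toHom)).symm.trans
      (hy k₀ (hk₀'.trans hu₀) hk₀ _ _ _ (IsPullback.of_hasPullback f.hom k₀.toHom))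
  obtain ⟨n, rfl⟩ : ∃ n : ℕ, d = n :=
    ⟨d.toNat, (ENat.natCast_toNat (hd ▸ nFib_ne_top π hpW hR hp hps hZ u₀)).symm⟩
  have hge : IsOpen {t : PrimeSpectrum R | (n : ℕ∞) ≤ nFib π t} := by
    rcases n with _ | n
    · simp
    · refine (congrArg IsOpen (Set.ext fun (t : PrimeSpectrum R) => ?_)).mpr (hgt n)
      exact ENat.add_one_le_iff (ENat.natCast_ne_top n)
  let U := {t : PrimeSpectrum R | nFib π t ≤ n} ∩ {t | (n : ℕ∞) ≤ nFib π t}
  refine ⟨Points.ofPt a₀ '' (show Set ↥(Over.mk φ).left from U), ?_,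
    isOpenMap_ofPt ha₀ _ ((hle n).inter hge), ⟨u₀, ⟨hd.le, hd.ge⟩, hu₀⟩⟩
  rintro _ ⟨t, ht, rfl⟩ k hk hgeo Xk a b h
  rw [card_fibre_eq f a₀ t k hk hgeo h]
  exact le_antisymm ht.1 ht.2

end Groth.L23.GeomConnLsc
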