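import Groth.Agent.L23.GeomConnLsc.Lift
import Mathlib.RingTheory.Spectrum.Prime.Topology

/-!
# Counting components through linked connected pieces of a covering
-/

universe u v w

open Topology TopologicalSpace

set_option autoImplicit false
set_option linter.style.haveILetI false

noncomputable section

namespace Groth.L23.GeomConnLsc

variable {W : Type w} [TopologicalSpace W] {P : Type v} [TopologicalSpace P] {m : ℕ}

/-- Linked pieces: their images meet. -/
def Link (g : W → P) (D : Fin m → Set W) (a b : Fin m) : Prop := ∃ x ∈ D a, ∃ y ∈ D b, g x = g y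

/-- The classes of linked pieces inject into the components. -/
theorem classes_le {g : W → P} (hg : IsOpenMap g) (hgs : Function.Surjective g) (D : Fin m → Set W)
    (hD : ∀ a, IsOpen (D a)) (hne : ∀ a, (D a).Nonempty) (hcov : ∀ x, ∃ a, x ∈ D a) :
    ENat.card (Quot (Link g D)) ≤ ENat.card (ConnectedComponents P) := by
  classical
  let Q : Quot (Link g D) → Set P := fun c => ⋃ (a : Fin m) (_ : Quot.mk _ a = c), g '' D a
  have hopen : ∀ c, IsOpen (Q c) := fun c => isOpen_iUnion fun a => isOpen_iUnion fun _ => hg _ (hD a)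
  have hd : ∀ c c', c ≠ c' → Disjoint (Q c) (Q c') := fun c c' hcc => by
    rw [Set.disjoint_iff]
    rintro x ⟨hx, hx'⟩
    simp only [Q, Set.mem_iUnion] at hx hx'
    obtain ⟨a, rfl, y, hy, rfl⟩ := hx
    obtain ⟨b, rfl, z, hz, e⟩ := hx'
    exact hcc (Quot.sound ⟨y, hy, z, hz, e.symm⟩)
  haveI : Finite (Quot (Link g D)) := Finite.of_surjective _ Quot.mk_surjective
  haveI : Fintype (Quot (Link g D)) := Fintype.ofFinite _
  let e := Fintype.equivFin (Quot (Link g D))
  rw [ENat.card_eq_coe_fintype_card]
  refine le_card_components (fun i => Q (e.symm i)) (fun i => ⟨?_, hopen _⟩) (fun i => ?_)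
    (fun i j hij => hd _ _ fun h => hij (e.symm.injective h))
  · rw [← isOpen_compl_iff, isOpen_iff_forall_mem_open]
    intro x hx
    obtain ⟨y, rfl⟩ := hgs x
    obtain ⟨a, ha⟩ := hcov y
    have hmem : g y ∈ Q (Quot.mk _ a) := Set.mem_iUnion₂.2 ⟨a, rfl, y, ha, rfl⟩
    exact ⟨_, fun z hz hz' => (hd _ _ (fun h => hx (by rw [← h]; exact hmem))).le_bot ⟨hz, hz'⟩, hopen _, hmem⟩
  · obtain ⟨a, ha⟩ := Quot.mk_surjective (e.symm i)
    obtain ⟨y, hy⟩ := hne a
    exact ⟨g y, Set.mem_iUnion₂.2 ⟨a, ha, y, hy, rfl⟩⟩

/-- When the pieces are connected the components are at most as many as classes of pieces known to be linked. -/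
theorem components_le_classes {g : W → P} (hg : Continuous g) (hgs : Function.Surjective g) (D : Fin m → Set W)
    (hconn : ∀ a, _root_.IsPreconnected (D a)) (hne : ∀ a, (D a).Nonempty) (hcov : ∀ x, ∃ a, x ∈ D a)
    (r : Fin m → Fin m → Prop) (hr : ∀ a b, r a b → Link g D a b) :
    ENat.card (ConnectedComponents P) ≤ ENat.card (Quot r) := by
  choose x hx using hne
  have hmem : ∀ a y, y ∈ D a → (ConnectedComponents.mk (g y)) = ConnectedComponents.mk (g (x a)) := fun a y hy =>
    ConnectedComponents.coe_eq_coe'.2 (((hconn a).image g hg.continuousOn).subset_connectedComponent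
      ⟨x a, hx a, rfl⟩ ⟨y, hy, rfl⟩)
  let F : Quot r → ConnectedComponents P := Quot.lift (fun a => ConnectedComponents.mk (g (x a))) fun a b hab => by
    obtain ⟨y, hy, z, hz, e⟩ := hr a b hab
    rw [← hmem a y hy, ← hmem b z hz, e]
  have hF : Function.Surjective F := fun c => by
    obtain ⟨p, rfl⟩ := ConnectedComponents.surjective_coe c
    obtain ⟨y, rfl⟩ := hgs p
    obtain ⟨a, ha⟩ := hcov y
    exact ⟨Quot.mk _ a, (hmem a y ha).symm⟩
  exact ENat.card_le_card_of_injective (Function.injective_surjInv hF)

/-- A ring with Noetherian spectrum is split by idempotents with connected basic open sets. -/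
theorem exists_connected_idempotents (T : Type u) [CommRing T] [NoetherianSpace (PrimeSpectrum T)] :
    ∃ (m : ℕ) (e : Fin m → T), (∀ i, IsIdempotentElem (e i)) ∧ (∀ i j, i ≠ j → e i * e j = 0) ∧
      (∏ i, (1 - e i)) = 0 ∧
      ∀ i, IsConnected (PrimeSpectrum.basicOpen (e i) : Set (PrimeSpectrum T)) := by
  classical
  haveI : Finite (irreducibleComponents (PrimeSpectrum T)) := NoetherianSpace.finite_irreducibleComponents.to_subtype
  haveI : Finite (ConnectedComponents (PrimeSpectrum T)) := by
    refine Finite.of_surjective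
      (fun Z : irreducibleComponents (PrimeSpectrum T) => (Z.2.1.nonempty.some : ConnectedComponents (PrimeSpectrum T)))
      fun c => ?_
    obtain ⟨x, rfl⟩ := ConnectedComponents.surjective_coe c
    refine ⟨⟨_, irreducibleComponent_mem_irreducibleComponents x⟩, ConnectedComponents.coe_eq_coe'.2 ?_⟩
    exact (isIrreducible_irreducibleComponent (x := x)).isConnected.isPreconnected.subset_connectedComponent
      mem_irreducibleComponent (irreducibleComponent_mem_irreducibleComponents x).1.nonempty.some_mem
  haveI : Fintype (ConnectedComponents (PrimeSpectrum T)) := Fintype.ofFinite _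
  let q := (Fintype.equivFin (ConnectedComponents (PrimeSpectrum T))).symm
  have hcl : ∀ c : ConnectedComponents (PrimeSpectrum T), IsClosed (ConnectedComponents.mk ⁻¹' {c}) := fun c => by
    obtain ⟨x, rfl⟩ := ConnectedComponents.surjective_coe c
    rw [connectedComponents_preimage_singleton]
    exact isClosed_connectedComponent
  have hclopen : ∀ c : ConnectedComponents (PrimeSpectrum T), IsClopen (ConnectedComponents.mk ⁻¹' {c}) := fun c => by
    refine ⟨hcl c, isClosed_compl_iff.1 ?_⟩
    have : (ConnectedComponents.mk ⁻¹' {c})ᶜ = ⋃ d ∈ ({c}ᶜ : Set (ConnectedComponents (PrimeSpectrum T))),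
        ConnectedComponents.mk ⁻¹' {d} := by
      ext x; simp
    rw [this]
    exact (Set.toFinite _).isClosed_biUnion fun d _ => hcl d
  choose e he hpre using fun i => PrimeSpectrum.exists_idempotent_basicOpen_eq_of_isClopen (hclopen (q i))
  have hmem : ∀ i (u : PrimeSpectrum T), e i ∉ u.asIdeal ↔ ConnectedComponents.mk u = q i := fun i u =>
    (Set.ext_iff.1 (hpre i) u).symm
  refine ⟨_, e, he, fun i j hij => ?_, ?_, fun i => ?_⟩
  · refine PrimeSpectrum.basicOpen_injOn_isIdempotentElem ((he i).mul (he j)) IsIdempotentElem.zero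
      (TopologicalSpace.Opens.ext (Set.ext fun u => ?_))
    simp only [PrimeSpectrum.basicOpen_zero, TopologicalSpace.Opens.coe_bot, Set.mem_empty_iff_false, iff_false]
    intro hu
    have h1 : e i ∉ u.asIdeal := fun h => hu (Ideal.mul_mem_right _ _ h)
    have h2 : e j ∉ u.asIdeal := fun h => hu (Ideal.mul_mem_left _ _ h)
    exact hij (q.injective (((hmem i u).1 h1).symm.trans ((hmem j u).1 h2)))
  · have hidem : IsIdempotentElem (∏ i, (1 - e i)) := by
      show _ * _ = _
      rw [← Finset.prod_mul_distrib]
      exact Finset.prod_congr rfl fun i _ => (he i).one_sub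
    refine PrimeSpectrum.basicOpen_injOn_isIdempotentElem hidem IsIdempotentElem.zero
      (TopologicalSpace.Opens.ext (Set.ext fun u => ?_))
    simp only [PrimeSpectrum.basicOpen_zero, TopologicalSpace.Opens.coe_bot, Set.mem_empty_iff_false, iff_false]
    intro hu
    obtain ⟨i, hi⟩ := q.surjective (ConnectedComponents.mk u)
    have h1 : e i ∉ u.asIdeal := (hmem i u).2 hi.symm
    refine hu (Ideal.IsPrime.prod_mem_iff.2 ⟨i, Finset.mem_univ i, ?_⟩)
    have h0 : e i * (1 - e i) = 0 := by rw [mul_sub, mul_one, (he i).eq, sub_self]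
    exact (u.2.mem_or_mem (h0 ▸ u.asIdeal.zero_mem)).resolve_left h1
  · rw [← hpre i]
    obtain ⟨x, hx⟩ := ConnectedComponents.surjective_coe (q i)
    rw [← hx, connectedComponents_preimage_singleton]
    exact isConnected_connectedComponent

end Groth.L23.GeomConnLsc
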