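import Groth.Agent.L23.GeomConn
import Groth.Agent.L03.ColimTensor
import Groth.Agent.L23.OpenSub

/-!
# Clopen parts of base changes along rings, seen on an affine atlas
-/

universe u

open CategoryTheory CategoryTheory.Limits AlgebraicGeometry AlgSp TopologicalSpace TensorProduct

set_option autoImplicit false
set_option linter.style.haveILetI false
set_option linter.unusedSectionVars false
set_option backward.isDefEq.respectTransparency false
set_option backward.isDefEq.respectTransparency.types false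

noncomputable section

namespace Groth.L23.GeomConnLsc

/-- Descending orthogonal idempotents with equal pullbacks along a filtered colimit. -/
theorem exists_idempotents_stage {ι : Type u} {R : Type u} [CommRing R] {G : ι → Type u} [∀ i, CommRing (G i)]
    [∀ i, Algebra R (G i)] {A : Type u} [CommRing A] [Algebra R A] {g : ∀ i, G i →ₐ[R] A}
    (hc : Groth.L03.SmoothStage.IsColim (B := R) G g) {B C : Type u} [CommRing B] [CommRing C] [Algebra R B]
    [Algebra R C] (j₁ j₂ : B →ₐ[R] C) {m : ℕ} (e : Fin m → B ⊗[R] A) (he : ∀ i, IsIdempotentElem (e i))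
    (horth : ∀ i i', i ≠ i' → e i * e i' = 0)
    (hj : ∀ i, Algebra.TensorProduct.map j₁ (AlgHom.id R A) (e i) = Algebra.TensorProduct.map j₂ (AlgHom.id R A) (e i)) :
    ∃ (k : ι) (z : Fin m → B ⊗[R] G k), (∀ i, Algebra.TensorProduct.map (AlgHom.id R B) (g k) (z i) = e i) ∧
      (∀ i, IsIdempotentElem (z i)) ∧ (∀ i i', i ≠ i' → z i * z i' = 0) ∧
      ∀ i, Algebra.TensorProduct.map j₁ (AlgHom.id R (G k)) (z i) =
        Algebra.TensorProduct.map j₂ (AlgHom.id R (G k)) (z i) := by
  classical
  obtain ⟨k₀, hk₀⟩ := Groth.L03.ColimTensor.exists_lift hc B e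
  choose z₀ hz₀ using hk₀
  have hz₀' : ∀ i, Algebra.TensorProduct.map (AlgHom.id R B) (g k₀) (z₀ i) = e i := hz₀
  obtain ⟨k₁, φ, hφ, hk₁⟩ := Groth.L03.ColimTensor.exists_kill hc B k₀
    (fun p : Fin m × Fin m => if p.1 = p.2 then z₀ p.1 * z₀ p.1 - z₀ p.1 else z₀ p.1 * z₀ p.2) fun p => by
      show Algebra.TensorProduct.map (AlgHom.id R B) (g k₀) _ = 0
      by_cases h : p.1 = p.2
      · rw [if_pos h, map_sub, map_mul, hz₀', (he _).eq, sub_self]
      · rw [if_neg h, map_mul, hz₀', hz₀', horth _ _ h]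
  let z₁ := fun i => Algebra.TensorProduct.map (AlgHom.id R B) φ (z₀ i)
  have hz₁ : ∀ i, Algebra.TensorProduct.map (AlgHom.id R B) (g k₁) (z₁ i) = e i := fun i => by
    rw [← AlgHom.comp_apply, ← Algebra.TensorProduct.map_id_comp, hφ, hz₀']
  have nat : ∀ {E E' : Type u} [CommRing E] [CommRing E'] [Algebra R E] [Algebra R E'] (f : E →ₐ[R] E')
      (j : B →ₐ[R] C) (x : B ⊗[R] E),
      Algebra.TensorProduct.map (AlgHom.id R C) f (Algebra.TensorProduct.map j (AlgHom.id R E) x) =
        Algebra.TensorProduct.map j (AlgHom.id R E') (Algebra.TensorProduct.map (AlgHom.id R B) f x) := by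
    intro E E' _ _ _ _ f j x
    induction x using TensorProduct.induction_on with
    | zero => simp
    | tmul b t => simp
    | add x y hx hy => simp only [map_add, hx, hy]
  obtain ⟨k₂, ψ, hψ, hk₂⟩ := Groth.L03.ColimTensor.exists_kill hc C k₁
    (fun i => Algebra.TensorProduct.map j₁ (AlgHom.id R (G k₁)) (z₁ i) -
      Algebra.TensorProduct.map j₂ (AlgHom.id R (G k₁)) (z₁ i)) fun i => by
      show Algebra.TensorProduct.map (AlgHom.id R C) (g k₁) _ = 0
      rw [map_sub, nat, nat, hz₁, hj, sub_self]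
  refine ⟨k₂, fun i => Algebra.TensorProduct.map (AlgHom.id R B) ψ (z₁ i), fun i => ?_, fun i => ?_,
    fun i i' h => ?_, fun i => ?_⟩
  · rw [← AlgHom.comp_apply, ← Algebra.TensorProduct.map_id_comp, hψ, hz₁]
  · have h := hk₁ (i, i)
    simp only [if_pos] at h
    have h' : Algebra.TensorProduct.map (AlgHom.id R B) φ (z₀ i * z₀ i - z₀ i) = 0 := h
    rw [map_sub, map_mul, sub_eq_zero] at h'
    show _ * _ = _
    rw [← map_mul, h']
  · have h' : Algebra.TensorProduct.map (AlgHom.id R B) φ (z₀ i * z₀ i') = 0 := by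
      have := hk₁ (i, i')
      simp only [if_neg h] at this
      exact this
    rw [map_mul] at h'
    rw [← map_mul, h', map_zero]
  · have h' : Algebra.TensorProduct.map (AlgHom.id R C) ψ (Algebra.TensorProduct.map j₁ (AlgHom.id R (G k₁)) (z₁ i) -
      Algebra.TensorProduct.map j₂ (AlgHom.id R (G k₁)) (z₁ i)) = 0 := hk₂ i
    rwa [map_sub, nat, nat, sub_eq_zero] at h'

section Geometry

variable {S : Scheme.{u}} {R : Type u} [CommRing R] (φ : Spec (CommRingCat.of R) ⟶ S)

/-- The spectrum of an algebra, over the base. -/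
abbrev specO (E : Type u) [CommRing E] [Algebra R E] : Over S :=
  Over.mk (Spec.map (CommRingCat.ofHom (algebraMap R E)) ≫ φ)

/-- The structure map of the spectrum of an algebra. -/
def strO (E : Type u) [CommRing E] [Algebra R E] : specO φ E ⟶ Over.mk φ :=
  Over.homMk (Spec.map (CommRingCat.ofHom (algebraMap R E))) rfl

variable {φ} in
/-- The map of spectra given by a map of algebras. -/
def specMap {E E' : Type u} [CommRing E] [Algebra R E] [CommRing E'] [Algebra R E'] (f : E →ₐ[R] E') :
    specO φ E' ⟶ specO φ E :=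
  Over.homMk (Spec.map (CommRingCat.ofHom f.toRingHom)) (by
    show Spec.map _ ≫ Spec.map _ ≫ φ = Spec.map _ ≫ φ
    rw [← Spec.map_comp_assoc, ← CommRingCat.ofHom_comp, show f.toRingHom.comp (algebraMap R E) = algebraMap R E' from f.comp_algebraMap])

variable {φ} in
theorem specMap_comp {E E' E'' : Type u} [CommRing E] [Algebra R E] [CommRing E'] [Algebra R E'] [CommRing E'']
    [Algebra R E''] (f : E →ₐ[R] E') (f' : E' →ₐ[R] E'') :
    specMap (φ := φ) f' ≫ specMap f = specMap (f'.comp f) :=
  Over.OverMorphism.ext (by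
    show Spec.map _ ≫ Spec.map _ = Spec.map _
    rw [← Spec.map_comp]; rfl)

variable {φ} in
theorem specMap_str {E E' : Type u} [CommRing E] [Algebra R E] [CommRing E'] [Algebra R E'] (f : E →ₐ[R] E') :
    specMap (φ := φ) f ≫ strO φ E = strO φ E' :=
  Over.OverMorphism.ext (by
    show Spec.map _ ≫ Spec.map _ = Spec.map _
    rw [← Spec.map_comp, ← CommRingCat.ofHom_comp, show f.toRingHom.comp (algebraMap R E) = algebraMap R E' from f.comp_algebraMap])

/-- The basic open set of an element, in the spectrum over the base. -/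
def basicSet {E : Type u} [CommRing E] [Algebra R E] (z : E) : Set ↥(specO φ E).left :=
  {u | z ∉ (show PrimeSpectrum E from u).asIdeal}

variable {φ} in
theorem isClopen_basicSet {E : Type u} [CommRing E] [Algebra R E] {z : E} (hz : IsIdempotentElem z) :
    IsClopen (basicSet φ z) :=
  PrimeSpectrum.isClopen_iff.2 ⟨z, hz, rfl⟩

theorem isPullback_specO (B E : Type u) [CommRing B] [Algebra R B] [CommRing E] [Algebra R E] :
    IsPullback (specMap (φ := φ) (Algebra.TensorProduct.includeLeft : B →ₐ[R] B ⊗[R] E))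
      (specMap (Algebra.TensorProduct.includeRight : E →ₐ[R] B ⊗[R] E)) (strO φ B) (strO φ E) :=
  IsPullback.of_map (Over.forget S) (by rw [specMap_str, specMap_str])
    (isPullback_SpecMap_of_isPushout _ _ _ _ (CommRingCat.isPushout_tensorProduct R B E))

variable {φ} {Z : Sp S} (π : Z ⟶ (yon S).obj (Over.mk φ)) {B : Type u} [CommRing B] [Algebra R B]
  {pW : (yon S).obj (specO φ B) ⟶ Z} (hpW : pW ≫ π = (yon S).map (strO φ B))

/-- The base change to an algebra. -/
abbrev ZE (E : Type u) [CommRing E] [Algebra R E] : Sp S := pullback π ((yon S).map (strO φ E))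

/-- The map to the spectrum, on points. -/
def πE (E : Type u) [CommRing E] [Algebra R E] (x : Points (ZE π E)) : PrimeSpectrum E :=
  (Points.schemeHomeo (specO φ E)).symm (Points.map (pullback.snd π ((yon S).map (strO φ E))) x)

theorem continuous_πE (E : Type u) [CommRing E] [Algebra R E] : Continuous (πE π E) :=
  (Points.schemeHomeo (specO φ E)).symm.continuous.comp (Points.continuous_map _)

include hpW in
/-- The base change of the atlas. -/
def pE (E : Type u) [CommRing E] [Algebra R E] : (yon S).obj (specO φ (B ⊗[R] E)) ⟶ ZE π E :=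
  pullback.lift ((yon S).map (specMap Algebra.TensorProduct.includeLeft) ≫ pW)
    ((yon S).map (specMap Algebra.TensorProduct.includeRight))
    (by rw [Category.assoc, hpW, ← Functor.map_comp, ← Functor.map_comp, specMap_str, specMap_str])

variable (E : Type u) [CommRing E] [Algebra R E]

theorem sqW : IsPullback ((yon S).map (specMap (φ := φ) (Algebra.TensorProduct.includeLeft : B →ₐ[R] B ⊗[R] E)))
    (pE π hpW E) pW (pullback.fst π ((yon S).map (strO φ E))) := by
  refine IsPullback.of_bot ?_ (by rw [pE, pullback.lift_fst]) (IsPullback.of_hasPullback π _)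
  rw [pE, pullback.lift_snd, hpW]
  exact (isPullback_specO φ B E).map (yon S)

theorem πE_ofPt (u : PrimeSpectrum (B ⊗[R] E)) :
    πE π E (Points.ofPt (pE π hpW E) u) =
      PrimeSpectrum.comap (Algebra.TensorProduct.includeRight : E →ₐ[R] B ⊗[R] E).toRingHom u := by
  have h : Points.map (pullback.snd π ((yon S).map (strO φ E))) (Points.ofPt (pE π hpW E) u) =
      Points.ofPt ((yon S).map (specMap (φ := φ) (Algebra.TensorProduct.includeRight : E →ₐ[R] B ⊗[R] E))) u := by
    rw [Points.map_ofPt, pE, pullback.lift_snd]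
  rw [πE, h]
  exact Points.toScheme_ofPt (specMap (φ := φ) (Algebra.TensorProduct.includeRight : E →ₐ[R] B ⊗[R] E)) (show ↥(specO φ (B ⊗[R] E)).left from u)

variable {C : Type u} [CommRing C] [Algebra R C] {j₁ j₂ : B →ₐ[R] C}
  (hR : IsPullback ((yon S).map (specMap (φ := φ) j₁)) ((yon S).map (specMap (φ := φ) j₂)) pW pW)

include hR in
theorem sqR : IsPullback ((yon S).map (specMap (φ := φ) (Algebra.TensorProduct.map j₁ (AlgHom.id R E))))
    ((yon S).map (specMap (φ := φ) (Algebra.TensorProduct.map j₂ (AlgHom.id R E)))) (pE π hpW E) (pE π hpW E) := by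
  have sB := (isPullback_specO φ B E).map (yon S)
  have sC := (isPullback_specO φ C E).map (yon S)
  have hcompR : ∀ j : B →ₐ[R] C, (Algebra.TensorProduct.map j (AlgHom.id R E)).comp
      (Algebra.TensorProduct.includeRight : E →ₐ[R] B ⊗[R] E) = Algebra.TensorProduct.includeRight := fun j => by
    ext x; simp
  have hcompL : ∀ j : B →ₐ[R] C, (Algebra.TensorProduct.map j (AlgHom.id R E)).comp
      (Algebra.TensorProduct.includeLeft : B →ₐ[R] B ⊗[R] E) =
        (Algebra.TensorProduct.includeLeft : C →ₐ[R] C ⊗[R] E).comp j := fun j => by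
    ext x; simp
  have hsnd : ∀ j : B →ₐ[R] C, (yon S).map (specMap (φ := φ) (Algebra.TensorProduct.map j (AlgHom.id R E))) ≫
      (yon S).map (specMap (φ := φ) (Algebra.TensorProduct.includeRight : E →ₐ[R] B ⊗[R] E)) =
      (yon S).map (specMap (φ := φ) (Algebra.TensorProduct.includeRight : E →ₐ[R] C ⊗[R] E)) := fun j => by
    rw [← Functor.map_comp, specMap_comp, hcompR]
  have hfst : ∀ j : B →ₐ[R] C, (yon S).map (specMap (φ := φ) (Algebra.TensorProduct.map j (AlgHom.id R E))) ≫
      (yon S).map (specMap (φ := φ) (Algebra.TensorProduct.includeLeft : B →ₐ[R] B ⊗[R] E)) =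
      (yon S).map (specMap (φ := φ) (Algebra.TensorProduct.includeLeft : C →ₐ[R] C ⊗[R] E)) ≫
        (yon S).map (specMap j) := fun j => by
    rw [← Functor.map_comp, ← Functor.map_comp, specMap_comp, specMap_comp, hcompL]
  have h₁ : IsPullback ((yon S).map (specMap (φ := φ) (Algebra.TensorProduct.includeLeft : C →ₐ[R] C ⊗[R] E)))
      ((yon S).map (specMap (φ := φ) (Algebra.TensorProduct.map j₂ (AlgHom.id R E))))
      ((yon S).map (specMap (φ := φ) j₂))
      ((yon S).map (specMap (φ := φ) (Algebra.TensorProduct.includeLeft : B →ₐ[R] B ⊗[R] E))) := by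
    refine IsPullback.of_bot ?_ (hfst j₂).symm sB
    rw [hsnd, ← Functor.map_comp, specMap_str]
    exact sC
  have h₂ := h₁.paste_horiz hR
  refine IsPullback.of_right ?_ ?_ (sqW π hpW E)
  · rw [hfst, ← (sqW π hpW E).w]
    exact h₂
  · refine pullback.hom_ext ?_ ?_
    · rw [Category.assoc, Category.assoc, pE, pullback.lift_fst, reassoc_of% (hfst j₁), reassoc_of% (hfst j₂),
        hR.w]
    · rw [Category.assoc, Category.assoc, pE, pullback.lift_snd, hsnd, hsnd]

variable (hp : RepWith @Etale pW) (hps : RepWith @Surjective pW)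

include hp hps in
theorem isOpenQuotientMap_pE : IsOpenQuotientMap (Points.ofPt (pE π hpW E)) :=
  isOpenQuotientMap_ofPt (repWith_of_isPullback (sqW π hpW E) hp) (repWith_of_isPullback (sqW π hpW E) hps)

include hR hp hps in
/-- An idempotent with equal pullbacks gives a clopen part. -/
theorem clopen_of_idempotent {z : B ⊗[R] E} (hz : IsIdempotentElem z)
    (hj : Algebra.TensorProduct.map j₁ (AlgHom.id R E) z = Algebra.TensorProduct.map j₂ (AlgHom.id R E) z) :
    IsClopen (Points.ofPt (pE π hpW E) '' basicSet φ z) ∧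
      Points.ofPt (pE π hpW E) ⁻¹' (Points.ofPt (pE π hpW E) '' basicSet φ z) =
        basicSet φ z := by
  have hq := isOpenQuotientMap_pE π hpW E hp hps
  have hpre : Points.ofPt (pE π hpW E) ⁻¹' (Points.ofPt (pE π hpW E) '' basicSet φ z) =
      basicSet φ z := by
    refine subset_antisymm ?_ (Set.subset_preimage_image _ _)
    rintro u ⟨u', hu', e⟩
    obtain ⟨r, rfl, rfl⟩ := (ofPt_eq_ofPt_iff (sqR π hpW E hR) u' u).1 e
    have h' : Algebra.TensorProduct.map j₁ (AlgHom.id R E) z ∉ (r : PrimeSpectrum (C ⊗[R] E)).asIdeal := hu'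
    rw [hj] at h'
    exact h'
  refine ⟨⟨?_, hq.isOpenMap (basicSet φ z) (isClopen_basicSet hz).isOpen⟩, hpre⟩
  rw [← hq.isQuotientMap.isClosed_preimage, hpre]
  exact (isClopen_basicSet hz).isClosed

include hR hp hps in
/-- A clopen part gives an idempotent with equal pullbacks. -/
theorem idempotent_of_clopen {O : Set (Points (ZE π E))} (hO : IsClopen O) :
    ∃ z : B ⊗[R] E, IsIdempotentElem z ∧ Points.ofPt (pE π hpW E) ⁻¹' O = basicSet φ z ∧
      Algebra.TensorProduct.map j₁ (AlgHom.id R E) z = Algebra.TensorProduct.map j₂ (AlgHom.id R E) z := by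
  obtain ⟨z, hz, hzO⟩ := PrimeSpectrum.exists_idempotent_basicOpen_eq_of_isClopen
    (hO.preimage (Points.continuous_ofPt (pE π hpW E)))
  refine ⟨z, hz, hzO, ?_⟩
  refine PrimeSpectrum.basicOpen_injOn_isIdempotentElem (hz.map _) (hz.map _) (TopologicalSpace.Opens.ext ?_)
  ext r
  have e : Points.ofPt (pE π hpW E) (PrimeSpectrum.comap (Algebra.TensorProduct.map j₁ (AlgHom.id R E)).toRingHom r) =
      Points.ofPt (pE π hpW E) (PrimeSpectrum.comap (Algebra.TensorProduct.map j₂ (AlgHom.id R E)).toRingHom r) :=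
    (ofPt_eq_ofPt_iff (sqR π hpW E hR) _ _).2 ⟨r, rfl, rfl⟩
  have hmem : ∀ v, v ∈ basicSet φ z ↔
      Points.ofPt (pE π hpW E) v ∈ O := fun v => (Set.ext_iff.1 hzO v).symm
  exact ((hmem (PrimeSpectrum.comap (Algebra.TensorProduct.map j₁ (AlgHom.id R E)).toRingHom r)).trans (by rw [e])).trans
    (hmem (PrimeSpectrum.comap (Algebra.TensorProduct.map j₂ (AlgHom.id R E)).toRingHom r)).symm

end Geometry

end Groth.L23.GeomConnLsc
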