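import Groth.Agent.L23.GeomConnLsc.Atlas
import Groth.Agent.L23.GeomConnLsc.Constr
import Groth.Agent.L23.GeomConnLsc.Valuation
import Groth.Agent.L06.Spectral
import Mathlib.RingTheory.Spectrum.Prime.ConstructibleSet

/-!
# With reduced fibres the number of geometric connected components is upper semicontinuous
-/

universe u v w

open CategoryTheory CategoryTheory.Limits AlgebraicGeometry AlgSp TopologicalSpace TensorProduct Topology

set_option autoImplicit false
set_option linter.style.haveILetI false
set_option linter.unusedSectionVars false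
set_option backward.isDefEq.respectTransparency false
set_option backward.isDefEq.respectTransparency.types false

noncomputable section

namespace Groth.L23.GeomConnLsc

theorem card_components_le_of_surjective {α : Type v} {β : Type v} [TopologicalSpace α] [TopologicalSpace β]
    {g : α → β} (hg : Continuous g)
    (h : ∀ y : β, ∃ x, ConnectedComponents.mk (g x) = ConnectedComponents.mk y) :
    ENat.card (ConnectedComponents β) ≤ ENat.card (ConnectedComponents α) := by
  refine ENat.card_le_card_of_injective (f := Function.surjInv (f := hg.connectedComponentsMap) fun c => ?_)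
    (Function.injective_surjInv _)
  obtain ⟨y, rfl⟩ := ConnectedComponents.surjective_coe c
  obtain ⟨x, hx⟩ := h y
  exact ⟨ConnectedComponents.mk x, hx⟩

theorem isClopen_component_of_noetherian {α : Type v} [TopologicalSpace α] [NoetherianSpace α] (x : α) :
    IsClopen (connectedComponent x) := by
  haveI : Finite (irreducibleComponents α) := NoetherianSpace.finite_irreducibleComponents.to_subtype
  haveI : Finite (ConnectedComponents α) := by
    refine Finite.of_surjective
      (fun Z : irreducibleComponents α => (Z.2.1.nonempty.some : ConnectedComponents α)) fun c => ?_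
    obtain ⟨x, rfl⟩ := ConnectedComponents.surjective_coe c
    refine ⟨⟨_, irreducibleComponent_mem_irreducibleComponents x⟩, ConnectedComponents.coe_eq_coe'.2 ?_⟩
    exact (isIrreducible_irreducibleComponent (x := x)).isConnected.isPreconnected.subset_connectedComponent
      mem_irreducibleComponent (irreducibleComponent_mem_irreducibleComponents x).1.nonempty.some_mem
  refine ⟨isClosed_connectedComponent, isClosed_compl_iff.1 ?_⟩
  have : (connectedComponent x)ᶜ = ⋃ d ∈ ({(x : ConnectedComponents α)}ᶜ : Set (ConnectedComponents α)),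
      ConnectedComponents.mk ⁻¹' {d} := by
    ext y
    simp only [Set.mem_compl_iff, Set.mem_iUnion, Set.mem_singleton_iff, Set.mem_preimage, exists_prop,
      exists_eq_right', ConnectedComponents.coe_eq_coe']
  rw [this]
  refine (Set.toFinite _).isClosed_biUnion fun d _ => ?_
  obtain ⟨z, rfl⟩ := ConnectedComponents.surjective_coe d
  rw [connectedComponents_preimage_singleton]
  exact isClosed_connectedComponent

variable {S : Scheme.{u}} {R : Type u} [CommRing R] {φ : Spec (CommRingCat.of R) ⟶ S}
variable {Z : Sp S} (π : Z ⟶ (yon S).obj (Over.mk φ))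

/-- The number of components of the base change. -/
def nc (E : Type u) [CommRing E] [Algebra R E] : ℕ∞ := ENat.card (_root_.ConnectedComponents (Points (ZE π E)))

/-- The number of components of the geometric fibre over a prime. -/
def nFib (t : PrimeSpectrum R) : ℕ∞ := nc π (AlgebraicClosure t.asIdeal.ResidueField)

theorem ker_algebraicClosure (p : Ideal R) [p.IsPrime] :
    RingHom.ker (algebraMap R (AlgebraicClosure p.ResidueField)) = p := by
  ext r
  rw [RingHom.mem_ker, IsScalarTower.algebraMap_apply R p.ResidueField (AlgebraicClosure p.ResidueField),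
    map_eq_zero, Ideal.algebraMap_residueField_eq_zero]

theorem ofPt_strO (K : Type u) [Field K] [Algebra R K] (c : ↥(specO φ K).left) (t : PrimeSpectrum R)
    (h : RingHom.ker (algebraMap R K) = t.asIdeal) :
    Points.ofPt ((yon S).map (strO φ K)) c = Points.ofScheme (Over.mk φ) (show ↥(Over.mk φ).left from t) := by
  rw [ofPt_map]
  refine congrArg _ (PrimeSpectrum.ext ?_)
  show Ideal.comap (algebraMap R K) (show PrimeSpectrum K from c).asIdeal = t.asIdeal
  rw [(Ideal.eq_bot_or_top _).resolve_right (show PrimeSpectrum K from c).2.ne_top]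
  exact h

theorem nc_eq (hZ : IsAlgSpace Z) (K K' : Type u) [Field K] [IsSepClosed K] [Algebra R K] [Field K'] [IsSepClosed K']
    [Algebra R K'] (h : RingHom.ker (algebraMap R K) = RingHom.ker (algebraMap R K')) : nc π K = nc π K' := by
  let X : Space S := ⟨Z, hZ⟩
  let Y : Space S := ⟨(yon S).obj (Over.mk φ), IsAlgSpace.yon_obj _⟩
  let f : X ⟶ Y := ObjectProperty.homMk π
  let t : PrimeSpectrum R := ⟨RingHom.ker (algebraMap R K), RingHom.ker_isPrime _⟩
  exact card_eq_of_class f ((yon S).map (strO φ K)) ((yon S).map (strO φ K'))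
    ((ofPt_strO K _ t rfl).trans (ofPt_strO K' _ t h.symm).symm)
    (IsPullback.of_hasPullback π _) (IsPullback.of_hasPullback π _)

theorem nFib_eq (hZ : IsAlgSpace Z) (t : PrimeSpectrum R) (K : Type u) [Field K] [IsSepClosed K] [Algebra R K]
    (h : RingHom.ker (algebraMap R K) = t.asIdeal) : nFib π t = nc π K :=
  nc_eq π hZ _ _ ((ker_algebraicClosure t.asIdeal).trans h.symm)

variable {B C : Type u} [CommRing B] [Algebra R B] [CommRing C] [Algebra R C]
  {pW : (yon S).obj (specO φ B) ⟶ Z} (hpW : pW ≫ π = (yon S).map (strO φ B)) {j₁ j₂ : B →ₐ[R] C}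
  (hR : IsPullback ((yon S).map (specMap (φ := φ) j₁)) ((yon S).map (specMap (φ := φ) j₂)) pW pW)
  (hp : RepWith @Etale pW) (hps : RepWith @Surjective pW)

include hR in
theorem link_iff (K : Type u) [CommRing K] [Algebra R K] {m : ℕ} (e : Fin m → B ⊗[R] K) (a b : Fin m) :
    Link (Points.ofPt (pE π hpW K)) (fun i => basicSet φ (e i)) a b ↔
      ∃ r : PrimeSpectrum (C ⊗[R] K), Algebra.TensorProduct.map j₁ (AlgHom.id R K) (e a) ∉ r.asIdeal ∧
        Algebra.TensorProduct.map j₂ (AlgHom.id R K) (e b) ∉ r.asIdeal := by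
  constructor
  · rintro ⟨x, hx, y, hy, h⟩
    obtain ⟨r, rfl, rfl⟩ := (ofPt_eq_ofPt_iff (sqR π hpW K hR) x y).1 h
    exact ⟨r, hx, hy⟩
  · rintro ⟨r, hx, hy⟩
    exact ⟨_, hx, _, hy, (ofPt_eq_ofPt_iff (sqR π hpW K hR)
      (PrimeSpectrum.comap (Algebra.TensorProduct.map j₁ (AlgHom.id R K)).toRingHom r)
      (PrimeSpectrum.comap (Algebra.TensorProduct.map j₂ (AlgHom.id R K)).toRingHom r)).2 ⟨r, rfl, rfl⟩⟩

theorem exists_mem_basicSet {E : Type u} [CommRing E] [Algebra R E] {m : ℕ} {z : Fin m → E}
    (h : ∏ i, (1 - z i) = 0) (x : ↥(specO φ E).left) : ∃ i, x ∈ basicSet φ (z i) := by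
  by_contra hne
  push Not at hne
  have hx := (show PrimeSpectrum E from x).2
  obtain ⟨i, -, hi⟩ := Ideal.IsPrime.prod_mem_iff.1 (h ▸ (show PrimeSpectrum E from x).asIdeal.zero_mem :
    ∏ i, (1 - z i) ∈ (show PrimeSpectrum E from x).asIdeal)
  have hzi : z i ∈ (show PrimeSpectrum E from x).asIdeal := not_not.1 (hne i)
  exact hx.ne_top ((Ideal.eq_top_iff_one _).2 (by simpa using add_mem hi hzi))

include hpW hR hp hps in
/-- Every prime has a constructible neighbourhood where the count does not grow, and it is finite. -/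
theorem exists_constructible_nhd [Algebra.FinitePresentation R B] [Algebra.FinitePresentation R C]
    (hZ : IsAlgSpace Z) (p : PrimeSpectrum R) :
    ∃ (n : ℕ) (G : Set (PrimeSpectrum R)), p ∈ G ∧ IsConstructible G ∧ (n : ℕ∞) ≤ nFib π p ∧
      ∀ t ∈ G, nFib π t ≤ n := by
  classical
  let K := AlgebraicClosure p.asIdeal.ResidueField
  have hK : RingHom.ker (algebraMap R K) = p.asIdeal := ker_algebraicClosure p.asIdeal
  obtain ⟨m, e, E, _, _, hEfp, z, G, τ, -, hcov, hne, hG, hτ, hτp, hmain⟩ :=
    exists_connected_stage B C j₁ j₂ p.asIdeal K hK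
  let g : ↥(specO φ (B ⊗[R] K)).left → Points (ZE π K) := Points.ofPt (pE π hpW K)
  let D : Fin m → Set ↥(specO φ (B ⊗[R] K)).left := fun i => basicSet φ (e i)
  haveI : Finite (Quot (Link g D)) := Finite.of_surjective _ Quot.mk_surjective
  haveI : Fintype (Quot (Link g D)) := Fintype.ofFinite _
  have hq := isOpenQuotientMap_pE π hpW K hp hps
  refine ⟨Fintype.card (Quot (Link g D)), PrimeSpectrum.comap (algebraMap R E) '' G, ⟨τ, hτ, hτp⟩,
    PrimeSpectrum.isConstructible_comap_image (RingHom.finitePresentation_algebraMap.2 hEfp) hG, ?_, ?_⟩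
  · rw [← ENat.card_eq_coe_fintype_card]
    exact classes_le hq.isOpenMap hq.surjective D (fun a => (PrimeSpectrum.basicOpen (e a)).isOpen) hne
      (exists_mem_basicSet hcov)
  · rintro _ ⟨t', ht', rfl⟩
    let K' := AlgebraicClosure t'.asIdeal.ResidueField
    let ψ : E →ₐ[R] K' :=
      { algebraMap E K' with
        commutes' := fun r => (IsScalarTower.algebraMap_apply R E K' r).symm }
    have hψ : RingHom.ker ψ = t'.asIdeal := ker_algebraicClosure t'.asIdeal
    have hker : RingHom.ker (algebraMap R K') = (PrimeSpectrum.comap (algebraMap R E) t').asIdeal := by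
      rw [IsScalarTower.algebraMap_eq R E K', ← RingHom.comap_ker, ker_algebraicClosure]
      rfl
    obtain ⟨hcov', hconn, hlink⟩ := hmain K' ψ (by
      rw [show (⟨RingHom.ker ψ, RingHom.ker_isPrime _⟩ : PrimeSpectrum E) = t' from PrimeSpectrum.ext hψ]
      exact ht')
    rw [nFib_eq π hZ _ K' hker, ← ENat.card_eq_coe_fintype_card]
    have hq' := isOpenQuotientMap_pE π hpW K' hp hps
    exact components_le_classes hq'.continuous hq'.surjective
      (fun i => basicSet φ (Algebra.TensorProduct.map (AlgHom.id R B) ψ (z i)))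
      (fun i => (hconn i).isPreconnected) (fun i => (hconn i).nonempty) (exists_mem_basicSet hcov') (Link g D)
      fun a b hab => (link_iff π hpW hR K' _ a b).2 (hlink a b ((link_iff π hpW hR K e a b).1 hab))

theorem pE_zMap {E E' : Type u} [CommRing E] [Algebra R E] [CommRing E'] [Algebra R E'] (f : E →ₐ[R] E') :
    pE π hpW E' ≫ zMap π f =
      (yon S).map (specMap (φ := φ) (Algebra.TensorProduct.map (AlgHom.id R B) f)) ≫ pE π hpW E := by
  refine pullback.hom_ext ?_ ?_
  · rw [Category.assoc, Category.assoc, zMap, pullback.lift_fst, pE, pullback.lift_fst, pE, pullback.lift_fst,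
      ← Category.assoc, ← Functor.map_comp, specMap_comp]
    congr 3
    ext x
    simp
  · rw [Category.assoc, Category.assoc, zMap, pullback.lift_snd, pE, pullback.lift_snd_assoc, pE, pullback.lift_snd,
      ← Functor.map_comp, ← Functor.map_comp, specMap_comp, specMap_comp]
    congr 2

include hpW hR hp hps in
/-- Components of the generic fibre are separated over a valuation ring. -/
theorem nc_le_valuation [Module.Flat R B] [Module.Flat R C] [Algebra.FiniteType R B]
    (hred : ∀ (K : Type u) [Field K] [Algebra R K], IsReduced (B ⊗[R] K))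
    (hZ : IsAlgSpace Z) (hπ : IsProperMor π) (V K : Type u) [CommRing V] [IsDomain V] [ValuationRing V]
    [Field K] [Algebra V K] [IsFractionRing V K] [Algebra R V] [Algebra R K] [IsScalarTower R V K] :
    nc π K ≤ nc π V := by
  classical
  let ι := IsScalarTower.toAlgHom R V K
  let F : Points (ZE π K) → Points (ZE π V) := Points.map (zMap π ι)
  have hF : Continuous F := Points.continuous_map _
  obtain ⟨Q, q, g, hq, hgc, -, hgs, -, -⟩ := exists_base_cover π hZ hπ K
  haveI : NoetherianSpace Q := noetherianSpace_of_proper q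
  haveI : NoetherianSpace (Points (ZE π K)) := TopologicalSpace.noetherianSpace_of_surjective g hgc hgs
  have hclop : ∀ x : Points (ZE π K), IsClopen (connectedComponent x) := isClopen_component_of_noetherian
  refine ENat.card_le_card_of_injective (f := hF.connectedComponentsMap) ?_
  intro c c' hcc
  obtain ⟨x, rfl⟩ := ConnectedComponents.surjective_coe c
  obtain ⟨y, rfl⟩ := ConnectedComponents.surjective_coe c'
  obtain ⟨e, he, hepre, hej⟩ := idempotent_of_clopen π hpW K hR hp hps (hclop x)
  obtain ⟨c₀, hc₀, hc₀e⟩ := exists_idempotent_valuation B hred V K he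
  have hnat : ∀ (j : B →ₐ[R] C) (w : B ⊗[R] V),
      Algebra.TensorProduct.map (AlgHom.id R C) ι (Algebra.TensorProduct.map j (AlgHom.id R V) w) =
        Algebra.TensorProduct.map j (AlgHom.id R K) (Algebra.TensorProduct.map (AlgHom.id R B) ι w) := by
    intro j w
    induction w using TensorProduct.induction_on with
    | zero => simp
    | tmul b t => simp
    | add a b ha hb => simp only [map_add, ha, hb]
  have hcj : Algebra.TensorProduct.map j₁ (AlgHom.id R V) c₀ = Algebra.TensorProduct.map j₂ (AlgHom.id R V) c₀ :=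
    map_injective_of_flat C ι (IsFractionRing.injective V K) (by rw [hnat, hnat, hc₀e, hej])
  obtain ⟨hcl, hpre⟩ := clopen_of_idempotent π hpW V hR hp hps hc₀ hcj
  have hmem : ∀ z, F z ∈ Points.ofPt (pE π hpW V) '' basicSet φ c₀ ↔ z ∈ connectedComponent x := by
    intro z
    obtain ⟨u, rfl⟩ := (isOpenQuotientMap_pE π hpW K hp hps).surjective z
    have h1 : F (Points.ofPt (pE π hpW K) u) = Points.ofPt (pE π hpW V)
        (PrimeSpectrum.comap (Algebra.TensorProduct.map (AlgHom.id R B) ι).toRingHom u) := by
      show Points.map _ _ = _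
      rw [Points.map_ofPt, pE_zMap, ofPt_comp]
      rfl
    rw [h1]
    refine (Set.ext_iff.1 hpre _).trans (Iff.trans ?_ (Set.ext_iff.1 hepre u).symm)
    show Algebra.TensorProduct.map (AlgHom.id R B) ι c₀ ∉ (show PrimeSpectrum (B ⊗[R] K) from u).asIdeal ↔
      e ∉ (show PrimeSpectrum (B ⊗[R] K) from u).asIdeal
    rw [hc₀e]
  have hx' : F y ∈ Points.ofPt (pE π hpW V) '' basicSet φ c₀ :=
    hcl.connectedComponent_subset ((hmem x).2 mem_connectedComponent) (ConnectedComponents.coe_eq_coe'.1 hcc.symm)
  exact ConnectedComponents.coe_eq_coe.2 (connectedComponent_eq ((hmem y).1 hx'))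

theorem nc_le_of_surjective {E E' : Type u} [CommRing E] [Algebra R E] [CommRing E'] [Algebra R E']
    (f : E →ₐ[R] E') (hf : Function.Surjective (PrimeSpectrum.comap f.toRingHom)) : nc π E ≤ nc π E' := by
  refine card_components_le_of_surjective (Points.continuous_map (zMap π f)) fun y => ?_
  have hs : Function.Surjective (Points.map ((yon S).map (specMap (φ := φ) f))) := fun z => by
    obtain ⟨v, hv⟩ := hf ((Points.schemeHomeo (specO φ E)).symm z)
    refine ⟨Points.ofScheme (specO φ E') (show ↥(specO φ E').left from v), ?_⟩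
    rw [← Points.ofPt_eq_map_ofScheme, ofPt_map]
    exact (congrArg _ hv).trans ((Points.schemeHomeo (specO φ E)).apply_symm_apply z)
  obtain ⟨x, hx⟩ := surjective_snd_of_isPullback (isPullback_zMap π f).flip hs y
  exact ⟨x, congrArg _ hx⟩

/-- Over a local ring every component meets the closed fibre. -/
theorem nc_le_closedFibre (hZ : IsAlgSpace Z) (hπ : IsProperMor π) (V : Type u) [CommRing V] [IsLocalRing V]
    [Algebra R V] : nc π V ≤ nc π (IsLocalRing.ResidueField V) := by
  let ρ : V →ₐ[R] IsLocalRing.ResidueField V := IsScalarTower.toAlgHom R V (IsLocalRing.ResidueField V)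
  haveI : IsClosedImmersion (specMap (φ := φ) ρ).left :=
    IsClosedImmersion.spec_of_surjective (CommRingCat.ofHom ρ.toRingHom) IsLocalRing.residue_surjective
  obtain ⟨-, hrange⟩ := fibre_embedding (isAlgSpace_ZE π hZ V) (isPullback_zMap π ρ)
  obtain ⟨Q, q, g, hq, -, -, -, -, hcl⟩ := exists_base_cover π hZ hπ V
  refine card_components_le_of_surjective (Points.continuous_map (zMap π ρ)) fun y => ?_
  obtain ⟨z, hz, hzc⟩ := closedPoint_mem_of_isClosed (hcl _ isClosed_connectedComponent)
    ⟨_, y, mem_connectedComponent, rfl⟩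
  obtain ⟨w, hw⟩ : z ∈ Set.range (Points.map (zMap π ρ)) := by
    rw [hrange]
    refine ⟨(default : PrimeSpectrum (IsLocalRing.ResidueField V)), ?_⟩
    refine Eq.trans (PrimeSpectrum.ext ?_) hzc.symm
    show Ideal.comap ρ.toRingHom (default : PrimeSpectrum (IsLocalRing.ResidueField V)).asIdeal =
      IsLocalRing.maximalIdeal V
    rw [(Ideal.eq_bot_or_top _).resolve_right (default : PrimeSpectrum (IsLocalRing.ResidueField V)).2.ne_top]
    exact IsLocalRing.ker_residue
  exact ⟨w, by rw [hw]; exact ConnectedComponents.coe_eq_coe'.2 hz⟩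

include hpW hR hp hps in
/-- The count does not grow under generalization. -/
theorem nFib_le_of_le [Module.Flat R B] [Module.Flat R C] [Algebra.FiniteType R B]
    (hred : ∀ (K : Type u) [Field K] [Algebra R K], IsReduced (B ⊗[R] K))
    (hZ : IsAlgSpace Z) (hπ : IsProperMor π) {t p : PrimeSpectrum R} (htp : t.asIdeal ≤ p.asIdeal) :
    nFib π t ≤ nFib π p := by
  let K := AlgebraicClosure t.asIdeal.ResidueField
  obtain ⟨V, hV, hVp⟩ := exists_valuation t.asIdeal p.asIdeal htp K (ker_algebraicClosure t.asIdeal)
  letI : Algebra R V := ((algebraMap R K).codRestrict V.toSubring hV).toAlgebra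
  haveI : IsScalarTower R V K := IsScalarTower.of_algebraMap_eq fun _ => rfl
  let κ := IsLocalRing.ResidueField V
  let Ω := AlgebraicClosure κ
  have hker : RingHom.ker (algebraMap R Ω) = p.asIdeal := by
    ext r
    rw [RingHom.mem_ker, IsScalarTower.algebraMap_apply R κ Ω, map_eq_zero, IsScalarTower.algebraMap_apply R V κ]
    exact hVp r
  calc nFib π t = nc π K := rfl
    _ ≤ nc π V := nc_le_valuation π hpW hR hp hps hred hZ hπ V K
    _ ≤ nc π κ := nc_le_closedFibre π hZ hπ V
    _ ≤ nc π Ω := nc_le_of_surjective π (IsScalarTower.toAlgHom R κ Ω) fun v =>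
      ⟨default, Subsingleton.elim _ _⟩
    _ = nFib π p := (nFib_eq π hZ p Ω hker).symm

include hpW hR hp hps in
theorem isOpen_nFib_le [Module.Flat R B] [Module.Flat R C] [Algebra.FinitePresentation R B]
    [Algebra.FinitePresentation R C]
    (hred : ∀ (K : Type u) [Field K] [Algebra R K], IsReduced (B ⊗[R] K))
    (hZ : IsAlgSpace Z) (hπ : IsProperMor π) (d : ℕ∞) : IsOpen {t : PrimeSpectrum R | nFib π t ≤ d} := by
  refine Groth.L06.Spectral.isOpen_of_stableUnderGeneralization ?_ ?_
  · refine (@isOpen_iff_forall_mem_open _ (constructibleTopology (PrimeSpectrum R)) _).2 fun p hp' => ?_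
    obtain ⟨n, G, hpG, hG, hn, hle⟩ := exists_constructible_nhd π hpW hR hp hps hZ p
    exact ⟨G, fun t ht => (hle t ht).trans (hn.trans hp'), (Groth.L06.Spectral.isClopen_cons_of_isConstructible hG).2,
      hpG⟩
  · intro p t hts hp'
    exact (nFib_le_of_le π hpW hR hp hps hred hZ hπ ((PrimeSpectrum.le_iff_specializes t p).2 hts)).trans hp'

include hpW hR hp hps in
theorem nFib_ne_top [Algebra.FinitePresentation R B] [Algebra.FinitePresentation R C]
    (hZ : IsAlgSpace Z) (p : PrimeSpectrum R) : nFib π p ≠ ⊤ := by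
  obtain ⟨n, G, hpG, -, -, hle⟩ := exists_constructible_nhd π hpW hR hp hps hZ p
  exact ne_top_of_le_ne_top (ENat.natCast_ne_top n) (hle p hpG)

end Groth.L23.GeomConnLsc
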